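import Groth.Agent.PerfD40.BC.Induct

/-!
# Tor-independent derived base change
-/

set_option autoImplicit false
set_option linter.style.haveILetI false
set_option backward.isDefEq.respectTransparency false
set_option backward.isDefEq.respectTransparency.types false

universe u

open CategoryTheory CategoryTheory.Limits AlgebraicGeometry TopologicalSpace

attribute [local instance] HasDerivedCategory.standard

noncomputable section

namespace Groth.Agent.PerfD40.BC

open Groth.Agent.KFlatLib Groth.Agent.RelPC13.BC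

attribute [local instance] hasLpull hasRpush_scheme

variable {X Y X' Y' : Scheme.{u}} {g' : X' ⟶ X} {f' : X' ⟶ Y'} {f : X ⟶ Y} {g : Y' ⟶ Y}

/-- The square is Tor-independent on affine opens. -/
def TorIndep (f : X ⟶ Y) (g : Y' ⟶ Y) : Prop :=
  ∀ (U : Y.Opens), IsAffineOpen U → ∀ (U' : Y'.Opens), IsAffineOpen U' → ∀ (hU' : U' ≤ g ⁻¹ᵁ U)
    (V : X.Opens), IsAffineOpen V → ∀ (hV : V ≤ f ⁻¹ᵁ U) (i : ℕ), 0 < i →
    Subsingleton (@DRing.Tor Γ(Y, U) _ i Γ(Y', U') Γ(X, V) _ (g.appLE U U' hU').hom.toModule _ (f.appLE U V hV).hom.toModule)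

theorem torFam_of_torIndep (htor : TorIndep f g) {U : Y.Opens} (hU : IsAffineOpen U) {U' : Y'.Opens}
    (hU' : IsAffineOpen U') (hle : U' ≤ g ⁻¹ᵁ U) {XA : Scheme.{u}} {ιA : XA ⟶ X} [IsOpenImmersion ιA]
    {fA : XA ⟶ Spec Γ(Y, U)} (hA : ιA ≫ f = fA ≫ hU.fromSpec) : TorFam (g.appLE U U' hle) fA := by
  intro V hV i hi
  have hVle : ιA ''ᵁ V ≤ f ⁻¹ᵁ U := by
    rintro _ ⟨x, -, rfl⟩
    show (ιA ≫ f) x ∈ U
    rw [hA]
    have : hU.fromSpec (fA x) ∈ Set.range hU.fromSpec := ⟨_, rfl⟩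
    rwa [hU.range_fromSpec] at this
  refine subsingleton_tor_of_iso (g.appLE U U' hle) (f.appLE U (ιA ''ᵁ V) hVle) _ (ιA.appIso V) ?_ i
    (htor U hU U' hU' hle _ (hV.image_of_isOpenImmersion ιA) hVle i hi)
  rw [Scheme.Hom.appIso_hom', Scheme.Hom.appLE_comp_appLE]
  simp only [hA, Scheme.Hom.comp_appLE, IsAffineOpen.fromSpec_app_self, Category.assoc, Scheme.Hom.map_appLE]

/-- Tor-independent base change. -/
theorem bcAt_of_torIndep (H : IsPullback g' f' f g) [QuasiCompact f] [QuasiSeparated f] (htor : TorIndep f g)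
    {E : DCoh.D X} (hE : DCoh.IsQCohD E) : BCAt g' f' f g E := by
  refine bcAt_of_affines H hE fun U hU U' hU' hle XA ιA fA hA => ?_
  haveI : QuasiCompact fA := MorphismProperty.of_isPullback hA inferInstance
  haveI : QuasiSeparated fA := MorphismProperty.of_isPullback hA inferInstance
  haveI : IsOpenImmersion ιA := MorphismProperty.of_isPullback hA.flip inferInstance
  haveI : CompactSpace XA := QuasiCompact.compactSpace_of_compactSpace fA
  haveI : QuasiSeparatedSpace XA := quasiSeparatedSpace_of_quasiSeparated fA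
  exact ⟨good_of_qcqs XA, torFam_of_torIndep htor hU hU' hle hA.w⟩

/-- Base change for flat morphisms. -/
theorem bcAt_of_flat (H : IsPullback g' f' f g) [QuasiCompact f] [QuasiSeparated f] [Flat f]
    {E : DCoh.D X} (hE : DCoh.IsQCohD E) : BCAt g' f' f g E :=
  bcAt_of_torIndep H (fun U hU U' hU' hle V hV hVle i hi => by
    letI := (g.appLE U U' hle).hom.toAlgebra
    letI := (f.appLE U V hVle).hom.toAlgebra
    haveI : Module.Flat Γ(Y, U) Γ(X, V) :=
      HasRingHomProperty.appLE @Flat f inferInstance ⟨U, hU⟩ ⟨V, hV⟩ hVle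
    exact (S3527.result Γ(Y, U) Γ(X, V) Γ(Y', U') i hi).2) hE

/-- The objects `Lg^* Rf_* E` and `Rf'_* Lg'^* E` agree. -/
theorem BCAt.nonempty_iso (w : g' ≫ f = f' ≫ g) {E : DCoh.D X} (h : BCAt g' f' f g E) :
    Nonempty ((DCoh.Lpull g).obj ((DCoh.Rpush f).obj E) ≅ (DCoh.Rpush f').obj ((DCoh.Lpull g').obj E)) := by
  obtain ⟨af⟩ := nonempty_lpull_rpush_adj f
  obtain ⟨af'⟩ := nonempty_lpull_rpush_adj f'
  obtain ⟨c⟩ := nonempty_cell w
  haveI := h af af' c
  exact ⟨asIso (bcApp af af' c.hom E)⟩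

/-- The base change morphism built from adjunctions on `g` and `g'` is invertible. -/
theorem exists_iso_of_bcAt (w : g' ≫ f = f' ≫ g) (adjg : DCoh.Lpull g ⊣ DCoh.Rpush g)
    (adjg' : DCoh.Lpull g' ⊣ DCoh.Rpush g') :
    ∃ e : DCoh.Rpush g' ⋙ DCoh.Rpush f ≅ DCoh.Rpush f' ⋙ DCoh.Rpush g,
      ∀ E : DCoh.D X, BCAt g' f' f g E → IsIso (DCoh.baseChangeApp adjg adjg' e E) := by
  obtain ⟨af⟩ := nonempty_lpull_rpush_adj f
  obtain ⟨af'⟩ := nonempty_lpull_rpush_adj f'
  obtain ⟨c⟩ := nonempty_cell w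
  let adjA := af.comp adjg'
  let adjB := adjg.comp af'
  let adjA' := adjA.ofNatIsoLeft c.symm
  refine ⟨adjA'.rightAdjointUniq adjB, fun E hE => ?_⟩
  let θ := DCoh.baseChangeApp adjg adjg' (adjA'.rightAdjointUniq adjB) E
  have hθ : (af'.homEquiv _ _).symm θ = c.hom.app _ ≫ (DCoh.Lpull g').map (af.counit.app E) := by
    let y : (DCoh.Rpush f).obj E ⟶ (DCoh.Rpush g' ⋙ DCoh.Rpush f).obj ((DCoh.Lpull g').obj E) :=
      (DCoh.Rpush f).map (adjg'.unit.app E)
    have h1 : (af'.homEquiv _ _).symm θ = (adjB.homEquiv _ _).symm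
        (y ≫ (adjA'.rightAdjointUniq adjB).hom.app ((DCoh.Lpull g').obj E)) := by
      rw [Adjunction.comp_homEquiv]
      rfl
    have hA : adjA.counit.app ((DCoh.Lpull g').obj E) =
        (adjA.homEquiv _ _).symm (𝟙 _) := (adjA.homEquiv_symm_id _).symm
    rw [h1, adjB.homEquiv_naturality_left_symm, Adjunction.homEquiv_symm_rightAdjointUniq_hom_app]
    show (DCoh.Lpull g ⋙ DCoh.Lpull f').map y ≫ c.hom.app _ ≫ adjA.counit.app _ = _
    rw [← Category.assoc, c.hom.naturality, Category.assoc, hA]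
    refine congrArg (c.hom.app _ ≫ ·) ?_
    refine (adjA.homEquiv_naturality_left_symm y (𝟙 _)).symm.trans ?_
    rw [Category.comp_id, Adjunction.comp_homEquiv]
    show (adjg'.homEquiv _ _).symm ((af.homEquiv _ _).symm y) = _
    have hy : (af.homEquiv _ _).symm y = af.counit.app E ≫ adjg'.unit.app E := by
      rw [← af.homEquiv_symm_id]
      refine Eq.trans ?_ (af.homEquiv_naturality_right_symm (𝟙 _) (adjg'.unit.app E))
      simp [y]
    rw [hy, adjg'.homEquiv_naturality_left_symm]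
    refine (congrArg ((DCoh.Lpull g').map (af.counit.app E) ≫ ·) ?_).trans (Category.comp_id _)
    rw [← adjg'.homEquiv_id]
    exact Equiv.symm_apply_apply _ _
  have hθ' : θ = bcApp af af' c.hom E :=
    (af'.homEquiv _ _).symm.injective (hθ.trans (by rw [bcApp, Equiv.symm_apply_apply]))
  show IsIso θ
  rw [hθ']
  exact hE af af' c

end Groth.Agent.PerfD40.BC
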