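import Groth.Agent.PerfD40.BC.PullSingle
import Groth.Agent.RelPC13.BC.Square
import Groth.Agent.KFlatLib.Scheme.TildePull
import Groth.Agent.H9Misc.TorBalance
import Groth.Agent.QCoh.Pullback

/-!
# Derived pullback of a module in one degree along a morphism of affine schemes
-/

set_option autoImplicit false
set_option linter.style.haveILetI false
set_option backward.isDefEq.respectTransparency false
set_option backward.isDefEq.respectTransparency.types false

universe u

open CategoryTheory CategoryTheory.Limits AlgebraicGeometry TopologicalSpace Opposite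
open scoped TensorProduct

attribute [local instance] HasDerivedCategory.standard

noncomputable section

namespace Groth.Agent.PerfD40.BC

open Groth.Agent.KFlatLib Groth.Agent.RelPC13.BC

/-- Higher homology of a base changed resolution is `Tor`. -/
lemma exactAt_extendScalars_left {R S : Type u} [CommRing R] [CommRing S] (ρ : R →+* S) {M : ModuleCat.{u} R}
    (P : ProjectiveResolution M) (i : ℕ)
    (h : letI := ρ.toAlgebra; IsZero (((CategoryTheory.Tor (ModuleCat.{u} R) i).obj (ModuleCat.of R S)).obj M)) :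
    (((ModuleCat.extendScalars.{u, u, u} ρ).mapHomologicalComplex
      (ComplexShape.down ℕ)).obj P.complex).ExactAt i := by
  letI := ρ.toAlgebra
  let N := (ModuleCat.restrictScalars ρ).obj (ModuleCat.of S S)
  let eN : N ≅ ModuleCat.of R S := LinearEquiv.toModuleIso (LinearEquiv.ofBijective
    ({ toFun := fun x => x, map_add' := fun _ _ => rfl, map_smul' := fun _ _ => rfl } :
      (N : Type u) →ₗ[R] S) Function.bijective_id)
  open MonoidalCategory in
  have h₁ : (((tensorLeft N).mapHomologicalComplex (ComplexShape.down ℕ)).obj P.complex).ExactAt i := by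
    rw [HomologicalComplex.exactAt_iff_isZero_homology]
    exact (h.of_iso (((CategoryTheory.Tor (ModuleCat.{u} R) i).mapIso eN).app M)).of_iso
      (P.isoLeftDerivedObj (tensorLeft N) i).symm
  have h₂ := h₁.of_iso ((NatIso.mapHomologicalComplex (extendRestrictIso ρ) (ComplexShape.down ℕ)).app P.complex).symm
  exact (ShortComplex.exact_map_iff_of_faithful _ (ModuleCat.restrictScalars ρ)).1 h₂

variable {A B : CommRingCat.{u}}

/-- The global sections of `M~`. -/
def topEquiv (M : ModuleCat.{u} A) : Γ(tilde M, (⊤ : (Spec A).Opens)) ≃+ M :=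
  AddEquiv.symm ((tilde.isoTop M).toLinearEquiv.toAddEquiv)

theorem topEquiv_symm_smul (M : ModuleCat.{u} A) (a : A) (m : M) :
    (topEquiv M).symm (a • m) = (Scheme.ΓSpecIso A).inv a • (topEquiv M).symm m :=
  ((tilde.toOpen M ⊤).hom.map_smul a m).trans rfl

theorem map_topEquiv_symm {M N : ModuleCat.{u} A} (h : M ⟶ N) (m : M) :
    ((tilde.functor A).map h).app ⊤ ((topEquiv M).symm m) = (topEquiv N).symm (h m) :=
  ConcreteCategory.congr_hom (tilde.toOpen_map_app h ⊤) m

theorem topEquiv_natural {M N : ModuleCat.{u} A} (h : M ⟶ N) (x : Γ(tilde M, (⊤ : (Spec A).Opens))) :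
    topEquiv N (((tilde.functor A).map h).app ⊤ x) = h (topEquiv M x) := by
  obtain ⟨m, rfl⟩ := (topEquiv M).symm.surjective x
  rw [map_topEquiv_symm, AddEquiv.apply_symm_apply, AddEquiv.apply_symm_apply]

variable (n : ℤ)

/-- `M~` in degree `n`. -/
abbrev tD (M : ModuleCat.{u} A) : DCoh.D (Spec A) :=
  (DerivedCategory.singleFunctor (Spec A).Modules n).obj ((tilde.functor A).obj M)

/-- An element of `M` as a map out of the generator. -/
def eltMap {M : ModuleCat.{u} A} (m : M) : sD (⊤ : (Spec A).Opens) n ⟶ tD n M :=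
  (DerivedCategory.singleFunctor (Spec A).Modules n).map (secMk ⊤ ((topEquiv M).symm m))

theorem eltMap_map {M N : ModuleCat.{u} A} (h : M ⟶ N) (m : M) :
    eltMap n m ≫ (DerivedCategory.singleFunctor _ n).map ((tilde.functor A).map h) = eltMap n (h m) := by
  rw [eltMap, eltMap, ← Functor.map_comp]
  refine congrArg _ ((secHom_bijective ⊤ _).1 ?_)
  rw [secHom_comp, secHom_secMk, secHom_secMk, map_topEquiv_symm]

theorem eltMap_add {M : ModuleCat.{u} A} (m m' : M) : eltMap n (m + m') = eltMap n m + eltMap n m' := by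
  rw [eltMap, eltMap, eltMap, ← Functor.map_add]
  refine congrArg _ ((secHom_bijective ⊤ _).1 ?_)
  rw [secHom_add, secHom_secMk, secHom_secMk, secHom_secMk, map_add]

theorem eltMap_smul {M : ModuleCat.{u} A} (a : A) (m : M) :
    eltMap n (a • m) = μD le_rfl ((Scheme.ΓSpecIso A).inv a) n ≫ eltMap n m := by
  rw [eltMap, eltMap, μD, ← Functor.map_comp]
  refine congrArg _ ((secHom_bijective ⊤ _).1 ?_)
  rw [secHom_μ_comp, secHom_secMk, secHom_secMk, topEquiv_symm_smul]
  refine congrArg (_ • ·) ?_
  exact (ConcreteCategory.congr_hom ((tilde M).presheaf.map_id (op ⊤)) _).symm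

theorem eltMap_bijective (M : ModuleCat.{u} A) : Function.Bijective (eltMap n (M := M)) :=
  ((Functor.FullyFaithful.ofFullyFaithful (DerivedCategory.singleFunctor (Spec A).Modules n)).map_bijective _ _).comp
    ((Equiv.ofBijective _ (secHom_bijective (⊤ : (Spec A).Opens) (tilde M))).symm.bijective.comp
      (topEquiv M).symm.bijective)

theorem bijective_eval_one (G : ModuleCat.{u} A) :
    Function.Bijective fun l : ModuleCat.of A A ⟶ G => l.hom (1 : A) :=
  ⟨fun _ _ h => ModuleCat.hom_ext (LinearMap.ext_ring h),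
    fun x => ⟨ModuleCat.ofHom (LinearMap.toSpanSingleton A G x), one_smul A x⟩⟩

theorem isQCohD_tD (M : ModuleCat.{u} A) : DCoh.IsQCohD (tD n M) := fun i => by
  by_cases hi : i = n
  · subst hi
    exact isQCoh_of_iso ((DerivedCategory.singleFunctorCompHomologyFunctorIso (Spec A).Modules i).app _).symm
      (QCoh.isQCoh_spec_iff.2 ⟨M, ⟨Iso.refl _⟩⟩)
  · refine isQCoh_of_iso (IsZero.iso ?_ ?_) (QCoh.isQCoh_spec_iff.2 ⟨ModuleCat.of A PUnit, ⟨Iso.refl _⟩⟩)
    · exact (tilde.functor A).map_isZero (ModuleCat.isZero_of_subsingleton _)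
    · rcases lt_or_gt_of_ne hi with h | h
      · exact DerivedCategory.isZero_of_isGE (tD n M) n i h
      · exact DerivedCategory.isZero_of_isLE (tD n M) n i h

theorem isIso_eltMap_one : IsIso (eltMap n (M := ModuleCat.of A A) (1 : A)) := by
  haveI : IsIso (secMk (⊤ : (Spec A).Opens) ((topEquiv (ModuleCat.of A A)).symm (1 : A))) := by
    rw [isIso_iff_coyoneda_map_bijective]
    intro N
    have hadj : Function.Bijective fun ψ : (tilde.functor A).obj (ModuleCat.of A A) ⟶ N =>
        (tilde.adjunction.homEquiv _ _ ψ).hom (1 : A) :=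
      (bijective_eval_one (moduleSpecΓFunctor.obj N)).comp
        (tilde.adjunction.homEquiv _ _).bijective
    refine (Function.Bijective.of_comp_iff' (secHom_bijective ⊤ N) _).1 (bijective_congr hadj fun ψ => ?_)
    show _ = secHom ⊤ N (secMk ⊤ _ ≫ ψ)
    rw [secHom_comp, secHom_secMk, tilde.adjunction.homEquiv_unit]
    rfl
  exact inferInstanceAs (IsIso ((DerivedCategory.singleFunctor _ n).map _))

variable (φ : A ⟶ B) [DCoh.HasLpull (Spec.map φ)] [DCoh.HasRpush (Spec.map φ)]

/-- The map `B ⊗ M ⟶ Hom(O[-n], Lg^* M~[-n])` is bijective. -/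
theorem bijective_pullElt (M : ModuleCat.{u} A) :
    letI := φ.hom.toAlgebra
    ∃ P : B ⊗[A] M →+ (sD (Spec.map φ ⁻¹ᵁ (⊤ : (Spec A).Opens)) n ⟶ (DCoh.Lpull (Spec.map φ)).obj (tD n M)),
      Function.Bijective P ∧ ∀ (b : B) (m : M), P (b ⊗ₜ m) =
        μD le_rfl ((Scheme.ΓSpecIso B).inv b) n ≫ (lsec (Spec.map φ) ⊤ n).inv ≫
          (DCoh.Lpull (Spec.map φ)).map (eltMap n m) := by
  letI := φ.hom.toAlgebra
  let g := Spec.map φ
  let T : (Spec B).Opens := g ⁻¹ᵁ ⊤
  let L := DCoh.Lpull g
  haveI : L.Additive := additive_lpull g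
  let S := DerivedCategory.singleFunctor (Spec A).Modules n
  let ext := ModuleCat.extendScalars.{u, u, u} φ.hom
  -- the maps
  let p : ∀ (M : ModuleCat.{u} A), B → M → (sD T n ⟶ L.obj (tD n M)) := fun M b m =>
    μD le_rfl ((Scheme.ΓSpecIso B).inv b) n ≫ (lsec g ⊤ n).inv ≫ L.map (eltMap n m)
  have hbal : ∀ (M : ModuleCat.{u} A) (a : A) (b : B) (m : M), p M (a • b) m = p M b (a • m) := by
    intro M a b m
    have h1 : (lsec g ⊤ n).inv ≫ L.map (μD le_rfl ((Scheme.ΓSpecIso A).inv a) n) =
        μD (g.preimage_mono le_rfl) (g.app ⊤ ((Scheme.ΓSpecIso A).inv a)) n ≫ (lsec g ⊤ n).inv := by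
      rw [Iso.inv_comp_eq, ← Category.assoc, Iso.eq_comp_inv]
      exact lsec_naturality g le_rfl _ n
    show _ = μD le_rfl _ n ≫ _ ≫ L.map (eltMap n (a • m))
    rw [eltMap_smul, L.map_comp, reassoc_of% h1, ← Category.assoc (μD le_rfl _ n), μD_comp]
    refine congrArg (· ≫ _) ?_
    congr 1
    rw [res_self]
    show (Scheme.ΓSpecIso B).inv (φ a * b) = _
    rw [map_mul, mul_comm]
    refine congrArg (_ * ·) ?_
    exact ConcreteCategory.congr_hom (Scheme.ΓSpecIso_inv_naturality φ) a
  let P : ∀ M : ModuleCat.{u} A, B ⊗[A] M →+ (sD T n ⟶ L.obj (tD n M)) := fun M =>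
    TensorProduct.liftAddHom
      (AddMonoidHom.mk' (fun b => AddMonoidHom.mk' (fun m => p M b m) fun m m' => by
          show _ ≫ _ ≫ L.map (eltMap n (m + m')) = _
          rw [eltMap_add, L.map_add, Preadditive.comp_add, Preadditive.comp_add])
        fun b b' => AddMonoidHom.ext fun m => by
          show p M (b + b') m = p M b m + p M b' m
          simp only [p, map_add, μD_add, Preadditive.add_comp])
      (hbal M)
  refine ⟨P M, ?_, fun b m => TensorProduct.liftAddHom_tmul _ _ _ _⟩
  -- the natural reference bijection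
  obtain ⟨κ⟩ := nonempty_hd_lpull_single_iso g n
  let κ' : tilde.functor A ⋙ (S ⋙ L ⋙ DerivedCategory.homologyFunctor (Spec B).Modules n) ≅
      ext ⋙ tilde.functor B :=
    Functor.isoWhiskerLeft _ κ ≪≫ QCoh.tildePullbackIso φ
  have hq : ∀ M : ModuleCat.{u} A, DCoh.IsQCohD (L.obj (tD n M)) := fun M =>
    isQCohD_lpull g (isQCohD_tD n M)
  have hT : IsAffineOpen T := isAffineOpen_top (Spec B)
  let σ : ∀ M : ModuleCat.{u} A, (sD T n ⟶ L.obj (tD n M)) ≃+ B ⊗[A] M := fun M =>
    (AddEquiv.ofBijective (AddMonoidHom.mk' (hsec T n (L.obj (tD n M))) fun x y => hsec_add T n _ x y)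
      (hsec_bijective hT n (hq M))).trans
      ((AddEquiv.ofBijective (AddMonoidHom.mk' (fun x => (κ'.hom.app M).app T x) fun x y => map_add _ x y)
        (ConcreteCategory.bijective_of_isIso ((κ'.hom.app M).app T))).trans (topEquiv (ext.obj M)))
  have hσ : ∀ {M N : ModuleCat.{u} A} (h : M ⟶ N) (x : sD T n ⟶ L.obj (tD n M)),
      σ N (x ≫ L.map (S.map ((tilde.functor A).map h))) = LinearMap.lTensor B h.hom (σ M x) := by
    intro M N h x
    show topEquiv (ext.obj N) ((κ'.hom.app N).app T (hsec T n _ (x ≫ L.map (S.map ((tilde.functor A).map h))))) = _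
    have h1 : hsec T n _ (x ≫ L.map (S.map ((tilde.functor A).map h))) =
        ((DerivedCategory.homologyFunctor (Spec B).Modules n).map (L.map (S.map ((tilde.functor A).map h)))).app T
          (hsec T n _ x) := by
      rw [hsec, psiC_comp, secHom_comp]
      rfl
    rw [h1]
    refine (congrArg (topEquiv (ext.obj N))
      (congr(($(κ'.hom.naturality h)).app T (hsec T n _ x)) : _)).trans ?_
    exact topEquiv_natural (ext.map h) _
  let Φ : ∀ M : ModuleCat.{u} A, B ⊗[A] M →+ B ⊗[A] M := fun M => (σ M).toAddMonoidHom.comp (P M)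
  have hΦ : ∀ {M N : ModuleCat.{u} A} (h : M ⟶ N) (z : B ⊗[A] M),
      Φ N (LinearMap.lTensor B h.hom z) = LinearMap.lTensor B h.hom (Φ M z) := by
    intro M N h z
    induction z using TensorProduct.induction_on with
    | zero => simp only [map_zero]
    | add z w hz hw => simp only [map_add, hz, hw]
    | tmul b m =>
      show σ N (P N (b ⊗ₜ h.hom m)) = LinearMap.lTensor B h.hom (σ M (P M (b ⊗ₜ m)))
      rw [← hσ, TensorProduct.liftAddHom_tmul, TensorProduct.liftAddHom_tmul]
      refine congrArg (σ N) ?_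
      show p N b (h m) = p M b m ≫ L.map _
      simp only [p]
      rw [Category.assoc, Category.assoc, ← L.map_comp, eltMap_map]
  -- the value at `A`
  let M₁ := ModuleCat.of A A
  have hP₁ : Function.Bijective fun b : B => P M₁ (b ⊗ₜ (1 : A)) := by
    haveI := isIso_eltMap_one (A := A) n
    let w := (lsec g ⊤ n).inv ≫ L.map (eltMap n (M := M₁) (1 : A))
    have hw : IsIso w := inferInstance
    have hμ : Function.Bijective fun b : B => μD (le_refl T) ((Scheme.ΓSpecIso B).inv b) n :=
      ((Functor.FullyFaithful.ofFullyFaithful (DerivedCategory.singleFunctor (Spec B).Modules n)).map_bijective _ _).comp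
        ((show Function.Bijective fun r : Γ(Spec B, T) => μ (le_refl T) r from
          ⟨fun _ _ h => μ_injective h, fun e => exists_μ_eq e⟩).comp
          (ConcreteCategory.bijective_of_isIso (Scheme.ΓSpecIso B).inv))
    refine bijective_congr (((Iso.refl (sD T n)).homCongr (asIso w)).bijective.comp hμ) fun b => ?_
    rw [TensorProduct.liftAddHom_tmul]
    simp [Iso.homCongr, w, p]
  let e : B →+ B := ((TensorProduct.rid A B).toAddMonoidHom.comp (Φ M₁)).comp
    (TensorProduct.rid A B).symm.toAddMonoidHom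
  have he : Function.Bijective e :=
    (TensorProduct.rid A B).bijective.comp ((σ M₁).bijective.comp hP₁)
  have hlin : ∀ (a : A) (b : B), e (a • b) = a • e b := fun a b => by
    have h := hΦ (ModuleCat.ofHom (a • LinearMap.id) : M₁ ⟶ M₁) ((TensorProduct.rid A B).symm b)
    have h0 : ∀ z : B ⊗[A] A, LinearMap.lTensor B (a • LinearMap.id : A →ₗ[A] A) z = a • z := fun z => by
      rw [LinearMap.lTensor_smul, LinearMap.smul_apply, LinearMap.lTensor_id, LinearMap.id_apply]
    rw [ModuleCat.hom_ofHom, h0, h0] at h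
    show TensorProduct.rid A B (Φ M₁ ((TensorProduct.rid A B).symm (a • b))) = _
    rw [map_smul, h, map_smul]
    rfl
  let eL : B ≃ₗ[A] B := LinearEquiv.ofBijective
    ({ toFun := e, map_add' := map_add e, map_smul' := hlin } : B →ₗ[A] B) he
  have hM : ∀ z : B ⊗[A] M, Φ M z = eL.rTensor M z := by
    intro z
    induction z using TensorProduct.induction_on with
    | zero => simp only [map_zero]
    | add z w hz hw => simp only [map_add, hz, hw]
    | tmul b m =>
      have h := hΦ (ModuleCat.ofHom (LinearMap.toSpanSingleton A M m) : M₁ ⟶ M) (b ⊗ₜ (1 : A))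
      rw [LinearMap.lTensor_tmul] at h
      have h1 : Φ M₁ (b ⊗ₜ (1 : A)) = e b ⊗ₜ (1 : A) := by
        apply (TensorProduct.rid A B).injective
        show _ = TensorProduct.rid A B (e b ⊗ₜ (1 : A))
        rw [TensorProduct.rid_tmul, one_smul]
        rfl
      rw [h1, LinearMap.lTensor_tmul] at h
      simpa [eL] using h
  exact (Function.Bijective.of_comp_iff' (σ M).bijective _).1
    (bijective_congr (eL.rTensor M).bijective fun z => (hM z).symm)

/-- Off degree `n` the pullback has no cohomology if `Tor` vanishes. -/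
theorem isZero_hd_lpull_tD (M : ModuleCat.{u} A)
    (htor : letI := φ.hom.toAlgebra; ∀ i : ℕ, 0 < i → Subsingleton (DRing.Tor A i B M)) (m : ℤ)
    (hm : m ≠ n) : IsZero (DCoh.HD ((DCoh.Lpull (Spec.map φ)).obj (tD n M)) m) := by
  letI := φ.hom.toAlgebra
  let P := ProjectiveResolution.of M
  let g := Spec.map φ
  haveI : PreservesFiniteLimits (tilde.functor A) := QCoh.tilde_preservesFiniteLimits (R := A)
  haveI : PreservesFiniteLimits (tilde.functor B) := QCoh.tilde_preservesFiniteLimits (R := B)
  haveI : PreservesFiniteColimits (tilde.functor A) := QCoh.tilde_preservesFiniteColimits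
  haveI : PreservesFiniteColimits (tilde.functor B) := QCoh.tilde_preservesFiniteColimits
  let K := P.cochainComplex⟦-n⟧
  let S₀ := (CochainComplex.singleFunctor (ModuleCat.{u} A) 0).obj M
  let e' : S₀⟦-n⟧ ≅ (CochainComplex.singleFunctor (ModuleCat.{u} A) n).obj M :=
    ((CochainComplex.singleFunctors (ModuleCat.{u} A)).shiftIso (-n) n 0 (by omega)).app M
  let s : K ⟶ (CochainComplex.singleFunctor (ModuleCat.{u} A) n).obj M := P.π'⟦-n⟧' ≫ e'.hom
  haveI : QuasiIso s := inferInstance
  have hflat : DRing.TermwiseFlat K := fun i => by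
    have hP : Projective (P.cochainComplex.X (i + -n)) := inferInstance
    haveI : Module.Projective A (P.cochainComplex.X (i + -n)) := (IsProjective.iff_projective _).2 hP
    exact Module.Flat.of_projective (R := A) (M := P.cochainComplex.X (i + -n))
  have hK := kFlat_of_termwiseFlat hflat (b := n) fun i hi =>
    CochainComplex.isZero_of_isStrictlyLE P.cochainComplex 0 (i + -n) (by omega)
  let tA := (tilde.functor A).mapHomologicalComplex (ComplexShape.up ℤ)
  let extB := (ModuleCat.extendScalars.{u, u, u} φ.hom).mapHomologicalComplex (ComplexShape.up ℤ)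
  let tB := (tilde.functor B).mapHomologicalComplex (ComplexShape.up ℤ)
  have hK' : DCoh.IsKFlat (tA.obj K) := isKFlat_tilde (R := A) K hK
  haveI : QuasiIso (tA.map s) := inferInstance
  haveI : IsIso (DerivedCategory.Q.map (tA.map s)) := (DerivedCategory.isIso_Q_map_iff_quasiIso _ _).2 inferInstance
  haveI := isIso_lpullComparison g hK'
  let e₀ : DerivedCategory.Q.obj (tA.obj K) ≅ tD n M :=
    asIso (DerivedCategory.Q.map (tA.map s)) ≪≫
      DerivedCategory.Q.mapIso ((HomologicalComplex.singleMapHomologicalComplex (tilde.functor A) (ComplexShape.up ℤ) n).app M) ≪≫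
      ((DerivedCategory.singleFunctorIsoCompQ (Spec A).Modules n).app _).symm
  let e₁ : (pullCx g).obj (tA.obj K) ≅ tB.obj (extB.obj K) :=
    HomologicalComplex.Hom.isoOfComponents (fun i => (QCoh.tildePullbackIso φ).app (K.X i))
      (fun i j _ => ((QCoh.tildePullbackIso φ).hom.naturality (K.d i j)).symm)
  let e : (DCoh.Lpull g).obj (tD n M) ≅ DerivedCategory.Q.obj (tB.obj (extB.obj K)) :=
    (DCoh.Lpull g).mapIso e₀.symm ≪≫ asIso ((lpullComparison g).app (tA.obj K)) ≪≫
      DerivedCategory.Q.mapIso e₁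
  refine IsZero.of_iso ?_ ((DerivedCategory.homologyFunctor _ m).mapIso e ≪≫
    (DerivedCategory.homologyFunctorFactors _ m).app _)
  show IsZero ((tB.obj (extB.obj K)).homology m)
  rw [← HomologicalComplex.exactAt_iff_isZero_homology]
  refine ShortComplex.Exact.map (S := (extB.obj K).sc m) ?_ (tilde.functor B)
  show (extB.obj K).ExactAt m
  -- the base changed resolution
  let cs := ((ModuleCat.extendScalars.{u, u, u} φ.hom).mapHomologicalComplex (ComplexShape.up ℤ)).commShiftIso (-n)
  refine HomologicalComplex.ExactAt.of_iso ?_ (cs.app P.cochainComplex).symm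
  rw [HomologicalComplex.exactAt_iff_isZero_homology]
  refine IsZero.of_iso ?_ (((HomologicalComplex.homologyFunctor (ModuleCat.{u} B) (ComplexShape.up ℤ) 0).shiftIso
    (-n) m (m - n) (by omega)).app (extB.obj P.cochainComplex))
  show IsZero ((extB.obj P.cochainComplex).homology (m - n))
  rw [← HomologicalComplex.exactAt_iff_isZero_homology]
  by_cases hneg : 0 < m - n
  · exact HomologicalComplex.ExactAt.of_isZero
      ((ModuleCat.extendScalars.{u, u, u} φ.hom).map_isZero
        (CochainComplex.isZero_of_isStrictlyLE P.cochainComplex 0 (m - n) hneg))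
  · obtain ⟨i, hi, hmn⟩ : ∃ i : ℕ, 0 < i ∧ m - n = -(i : ℤ) := ⟨(n - m).toNat, by omega, by omega⟩
    rw [hmn]
    refine HomologicalComplex.ExactAt.of_iso ?_
      (H9Misc.TorBalance.mapExtendIso (ModuleCat.extendScalars.{u, u, u} φ.hom) P.complex).symm
    rw [HomologicalComplex.extend_exactAt_iff _ ComplexShape.embeddingDownNat (show ComplexShape.embeddingDownNat.f i = -(i : ℤ) from rfl)]
    haveI := htor i hi
    exact exactAt_extendScalars_left φ.hom P i (ModuleCat.isZero_of_subsingleton _)

end Groth.Agent.PerfD40.BC
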