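import Groth.Agent.PerfD40.BC.Basic
import Groth.Agent.PerfD40.BC.AffinePull

/-!
# Derived base change for the structure sheaf of an affine scheme over an affine scheme
-/

set_option autoImplicit false
set_option linter.style.haveILetI false
set_option backward.isDefEq.respectTransparency false
set_option backward.isDefEq.respectTransparency.types false
set_option maxHeartbeats 800000

universe u

open CategoryTheory CategoryTheory.Limits AlgebraicGeometry TopologicalSpace Opposite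
open scoped TensorProduct

attribute [local instance] HasDerivedCategory.standard

noncomputable section

namespace Groth.Agent.PerfD40.BC

open Groth.Agent.KFlatLib Groth.Agent.RelPC13.BC

attribute [local instance] hasLpull hasRpush_scheme

variable {A B : CommRingCat.{u}} {φ : A ⟶ B} {X X' : Scheme.{u}} {g' : X' ⟶ X} {f' : X' ⟶ Spec B}
  {f : X ⟶ Spec A}

/-- `B ⊗ Γ(X) = Γ(X')`. -/
theorem bijective_mul_of_pullback [IsAffine X] (H : IsPullback g' f' f (Spec.map φ)) :
    letI := φ.hom.toAlgebra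
    letI := ((Scheme.ΓSpecIso A).inv ≫ f.appTop).hom.toAlgebra
    ∃ C : B ⊗[A] Γ(X, ⊤) →+ Γ(X', ⊤), Function.Bijective C ∧
      ∀ b r, C (b ⊗ₜ r) = f'.appTop ((Scheme.ΓSpecIso B).inv b) * g'.appTop r := by
  letI := φ.hom.toAlgebra
  letI := ((Scheme.ΓSpecIso A).inv ≫ f.appTop).hom.toAlgebra
  letI := ((Scheme.ΓSpecIso B).inv ≫ f'.appTop).hom.toAlgebra
  letI := g'.appTop.hom.toAlgebra
  letI := ((Scheme.ΓSpecIso A).inv ≫ f.appTop ≫ g'.appTop).hom.toAlgebra
  have hsq : IsPushout φ ((Scheme.ΓSpecIso A).inv ≫ f.appTop) ((Scheme.ΓSpecIso B).inv ≫ f'.appTop) g'.appTop :=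
    (isPushout_appTop_of_isPullback H).flip.of_iso (Scheme.ΓSpecIso A) (Scheme.ΓSpecIso B) (Iso.refl _)
      (Iso.refl _) (Scheme.ΓSpecIso_naturality φ) (by simp) (by simp) (by simp)
  haveI : IsScalarTower A Γ(X, ⊤) Γ(X', ⊤) := .of_algebraMap_eq' rfl
  haveI : IsScalarTower A B Γ(X', ⊤) := .of_algebraMap_eq' (by
    show ((Scheme.ΓSpecIso A).inv ≫ f.appTop ≫ g'.appTop).hom = (φ ≫ (Scheme.ΓSpecIso B).inv ≫ f'.appTop).hom
    rw [hsq.w, Category.assoc])
  haveI : Algebra.IsPushout A B Γ(X, ⊤) Γ(X', ⊤) := CommRingCat.isPushout_iff_isPushout.1 hsq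
  exact ⟨(Algebra.IsPushout.equiv A B Γ(X, ⊤) Γ(X', ⊤)).toAddEquiv.toAddMonoidHom,
    (Algebra.IsPushout.equiv A B Γ(X, ⊤) Γ(X', ⊤)).bijective,
    fun b r => Algebra.IsPushout.equiv_tmul A B Γ(X, ⊤) Γ(X', ⊤) b r⟩

/-- The whole space gives the structure sheaf. -/
theorem isQCoh_secObj_top (Z : Scheme.{u}) : Coh.IsQCoh (secObj (⊤ : Z.Opens)) := by
  let t : Γ(Coh.structureModule Z, ⊤) := (1 : Γ(Z, ⊤))
  haveI : IsIso (secMk ⊤ t) := by
    rw [isIso_iff_coyoneda_map_bijective]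
    intro N
    refine (Function.Bijective.of_comp_iff' (secHom_bijective ⊤ N) _).1 ?_
    have h : (secHom ⊤ N ∘ fun ψ : Coh.structureModule Z ⟶ N => secMk ⊤ t ≫ ψ) =
        fun ψ => ψ.app ⊤ t := funext fun ψ => by
      show secHom ⊤ N (secMk ⊤ t ≫ ψ) = _
      rw [secHom_comp, secHom_secMk]
    rw [h]
    refine ⟨fun ψ ψ' e => Scheme.Modules.hom_ext _ _ fun W => ?_, fun y => ⟨QCoh.homOfTop y, ?_⟩⟩
    · ext (a : Γ(Z, W))
      have key : ∀ χ : Coh.structureModule Z ⟶ N, χ.app W a = a • N.presheaf.map (homOfLE le_top).op (χ.app ⊤ t) :=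
        fun χ => by
          have h1 : χ.app W ((Coh.structureModule Z).presheaf.map (homOfLE (le_top (a := W))).op t) =
              N.presheaf.map (homOfLE le_top).op (χ.app ⊤ t) :=
            ConcreteCategory.congr_hom (χ.mapPresheaf.naturality (homOfLE (le_top (a := W))).op) t
          rw [← h1]
          refine (congrArg _ ?_).trans (Scheme.Modules.Hom.app_smul (M := Coh.structureModule Z) χ a _)
          show a = a * (Z.presheaf.map (homOfLE le_top).op (1 : Γ(Z, ⊤)))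
          rw [map_one, mul_one]
      exact (key ψ).trans ((congrArg (fun v => a • N.presheaf.map (homOfLE le_top).op v) e).trans (key ψ').symm)
    · show (QCoh.homOfTop y).app ⊤ t = y
      rw [QCoh.homOfTop_app]
      exact (one_smul _ _).trans (ConcreteCategory.congr_hom (N.presheaf.map_id (op ⊤)) y)
  exact isQCoh_of_iso (asIso (secMk ⊤ t)).symm QCoh.isQCoh_structureModule

/-- Maps between the generators in different degrees vanish on an affine scheme. -/
theorem eq_zero_of_sD [IsAffine X] {E : DCoh.D X} (hE : DCoh.IsQCohD E) (m : ℤ)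
    (hz : IsZero (DCoh.HD E m)) (v : sD (⊤ : X.Opens) m ⟶ E) : v = 0 := by
  refine (hsec_bijective (isAffineOpen_top X) m hE).1 ?_
  have h : (𝟙 (DCoh.HD E m)) = 0 := (IsZero.iff_id_eq_zero _).1 hz
  calc hsec ⊤ m E v = (𝟙 (DCoh.HD E m) : _ ⟶ _).app ⊤ (hsec ⊤ m E v) := rfl
    _ = (𝟙 (DCoh.HD E m) : _ ⟶ _).app ⊤ (hsec ⊤ m E 0) := by rw [h]; rfl
    _ = _ := rfl

/-- Base change holds for the generator of an affine scheme over an affine scheme. -/
theorem bcAt_generator [IsAffine X] (H : IsPullback g' f' f (Spec.map φ)) (n : ℤ)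
    (htor : letI := φ.hom.toAlgebra; letI := ((Scheme.ΓSpecIso A).inv ≫ f.appTop).hom.toAlgebra
      ∀ i : ℕ, 0 < i → Subsingleton (DRing.Tor A i B Γ(X, ⊤))) :
    BCAt g' f' f (Spec.map φ) (sD (⊤ : X.Opens) n) := by
  intro af af' c
  letI := φ.hom.toAlgebra
  letI := ((Scheme.ΓSpecIso A).inv ≫ f.appTop).hom.toAlgebra
  let g := Spec.map φ
  haveI : IsAffineHom f := inferInstance
  haveI : IsAffineHom f' := MorphismProperty.of_isPullback H inferInstance
  haveI : IsAffine X' := isAffine_of_isAffineHom f'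
  have hgen0 : DCoh.IsQCohD (sD (⊤ : X.Opens) n) := fun i => by
    by_cases hi : i = n
    · subst hi
      exact isQCoh_of_iso ((DerivedCategory.singleFunctorCompHomologyFunctorIso X.Modules i).app _).symm
        (isQCoh_secObj_top X)
    · rcases lt_or_gt_of_ne hi with h | h
      · exact isQCoh_of_isZero (DerivedCategory.isZero_of_isGE (sD (⊤ : X.Opens) n) n i h)
      · exact isQCoh_of_isZero (DerivedCategory.isZero_of_isLE (sD (⊤ : X.Opens) n) n i h)
  have hR : DCoh.IsQCohD ((DCoh.Rpush f).obj (sD (⊤ : X.Opens) n)) := isQCohD_rpush f hgen0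
  -- the direct image is a module in degree `n`
  have hRz : ∀ m : ℤ, m ≠ n → IsZero (DCoh.HD ((DCoh.Rpush f).obj (sD (⊤ : X.Opens) n)) m) := fun m hm => by
    refine isZero_of_sections (hR m) fun y => ⟨⊤, trivial, isAffineOpen_top _, ⟨fun a b => ?_⟩⟩
    obtain ⟨wa, rfl⟩ := (hsec_bijective (isAffineOpen_top _) m hR).2 a
    obtain ⟨wb, rfl⟩ := (hsec_bijective (isAffineOpen_top _) m hR).2 b
    have key : ∀ w : sD (⊤ : (Spec A).Opens) m ⟶ ((DCoh.Rpush f).obj (sD (⊤ : X.Opens) n)), (lsec f ⊤ m).inv ≫ (af.homEquiv _ _).symm w = 0 := fun w =>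
      eq_zero_of_sD (X := X) hgen0 m (by
        rcases lt_or_gt_of_ne hm with h | h
        · exact DerivedCategory.isZero_of_isGE (sD (⊤ : X.Opens) n) n m h
        · exact DerivedCategory.isZero_of_isLE (sD (⊤ : X.Opens) n) n m h) _
    have : wa = wb := (af.homEquiv _ _).symm.injective
      ((cancel_epi (lsec f ⊤ m).inv).1 ((key wa).trans (key wb).symm))
    rw [this]
  haveI : ((DCoh.Rpush f).obj (sD (⊤ : X.Opens) n)).IsGE n := (DerivedCategory.isGE_iff ((DCoh.Rpush f).obj (sD (⊤ : X.Opens) n)) n).2 fun m hm => hRz m (by omega)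
  haveI : ((DCoh.Rpush f).obj (sD (⊤ : X.Opens) n)).IsLE n := (DerivedCategory.isLE_iff ((DCoh.Rpush f).obj (sD (⊤ : X.Opens) n)) n).2 fun m hm => hRz m (by omega)
  obtain ⟨M₀, ⟨e₀⟩⟩ := DerivedCategory.exists_iso_singleFunctor_obj_of_isGE_of_isLE ((DCoh.Rpush f).obj (sD (⊤ : X.Opens) n)) n
  have hM₀ : Coh.IsQCoh M₀ := isQCoh_of_iso ((DerivedCategory.homologyFunctor _ n).mapIso e₀ ≪≫
    (DerivedCategory.singleFunctorCompHomologyFunctorIso (Spec A).Modules n).app M₀) (hR n)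
  obtain ⟨N, ⟨eN⟩⟩ := QCoh.isQCoh_spec_iff.1 hM₀
  let u : tD n N ≅ ((DCoh.Rpush f).obj (sD (⊤ : X.Opens) n)) := (DerivedCategory.singleFunctor (Spec A).Modules n).mapIso eN ≪≫ e₀.symm
  -- elements as functions
  have hμ : ∀ (Z : Scheme.{u}), Function.Bijective fun r : Γ(Z, ⊤) => μD (le_refl (⊤ : Z.Opens)) r n := fun Z =>
    ((Functor.FullyFaithful.ofFullyFaithful (DerivedCategory.singleFunctor Z.Modules n)).map_bijective _ _).comp
      ⟨fun _ _ h => μ_injective h, fun e => exists_μ_eq e⟩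
  let r : N → Γ(X, ⊤) := fun m => (Equiv.ofBijective _ (hμ X)).symm
    ((lsec f ⊤ n).inv ≫ (af.homEquiv _ _).symm (eltMap n m ≫ u.hom))
  have hr : ∀ m, μD (le_refl (⊤ : X.Opens)) (r m) n =
      (lsec f ⊤ n).inv ≫ (af.homEquiv _ _).symm (eltMap n m ≫ u.hom) := fun m =>
    (Equiv.ofBijective _ (hμ X)).apply_symm_apply _
  have hrb : Function.Bijective r :=
    (Equiv.ofBijective _ (hμ X)).symm.bijective.comp
      (bijective_congr (((lsec f (⊤ : (Spec A).Opens) n).homCongr (Iso.refl (sD (⊤ : X.Opens) n))).bijective.comp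
        ((af.homEquiv _ _).symm.bijective.comp (((Iso.refl _).homCongr u).bijective.comp (eltMap_bijective n N))))
        fun m => by simp [Iso.homCongr])
  haveI := (semiExact_lpull f).1
  have hradd : ∀ m m' : N, r (m + m') = r m + r m' := fun m m' => (hμ X).1 (by
    simp only [hr, eltMap_add, Preadditive.add_comp, Adjunction.homEquiv_counit, Functor.map_add,
      Preadditive.comp_add, μD_add])
  have hrlin : ∀ (a : A) (m : N), r (a • m) = a • r m := fun a m => (hμ X).1 (by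
    simp only [hr, eltMap_smul, Category.assoc]
    rw [af.homEquiv_naturality_left_symm]
    have h1 : (lsec f (⊤ : (Spec A).Opens) n).inv ≫ (DCoh.Lpull f).map (μD le_rfl ((Scheme.ΓSpecIso A).inv a) n) =
        μD le_rfl (f.app ⊤ ((Scheme.ΓSpecIso A).inv a)) n ≫ (lsec f ⊤ n).inv := by
      rw [Iso.inv_comp_eq, ← Category.assoc, Iso.eq_comp_inv]
      exact lsec_naturality f le_rfl _ n
    rw [reassoc_of% h1]
    refine Eq.trans (congrArg (μD le_rfl _ n ≫ ·) (hr m).symm) ?_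
    refine (μD_comp _ _ _ _ n).trans ?_
    congr 1
    rw [res_self]
    rfl)
  let rl : N ≃ₗ[A] Γ(X, ⊤) := LinearEquiv.ofBijective
    ({ toFun := r, map_add' := hradd, map_smul' := hrlin } : N →ₗ[A] Γ(X, ⊤)) hrb
  -- the source in degrees other than `n`
  have hsrc : ∀ m, m ≠ n → IsZero (DCoh.HD ((DCoh.Lpull g).obj ((DCoh.Rpush f).obj (sD (⊤ : X.Opens) n))) m) := fun m hm =>
    (isZero_hd_lpull_tD n φ N (fun i hi => by
      haveI := htor i hi
      exact (((CategoryTheory.Tor (ModuleCat.{u} A) i).obj (ModuleCat.of A B)).mapIso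
        rl.toModuleIso).toLinearEquiv.toEquiv.subsingleton) m hm).of_iso
      ((DerivedCategory.homologyFunctor _ m).mapIso ((DCoh.Lpull g).mapIso u.symm))
  have hG' : DCoh.IsQCohD ((DCoh.Lpull g').obj (sD (⊤ : X.Opens) n)) := isQCohD_lpull g' hgen0
  have hs : DCoh.IsQCohD ((DCoh.Lpull g).obj ((DCoh.Rpush f).obj (sD (⊤ : X.Opens) n))) := isQCohD_lpull g hR
  refine RelPC13.BC.isIso_of_bij_sD hs (isQCohD_rpush f' hG') _ fun y =>
    ⟨g ⁻¹ᵁ ⊤, trivial, isAffineOpen_top (Spec B), fun m => ?_⟩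
  haveI := (semiExact_lpull f').1
  haveI := (semiExact_lpull g).1
  by_cases hm : m = n
  swap
  · have h1 : ∀ v : sD (g ⁻¹ᵁ ⊤) m ⟶ (DCoh.Lpull g).obj ((DCoh.Rpush f).obj (sD (⊤ : X.Opens) n)), v = 0 := fun v =>
      eq_zero_of_sD (X := Spec B) hs m (hsrc m hm) v
    have h2 : ∀ v : sD (g ⁻¹ᵁ ⊤) m ⟶ (DCoh.Rpush f').obj ((DCoh.Lpull g').obj (sD (⊤ : X.Opens) n)), v = 0 := fun v => by
      have hz : IsZero (DCoh.HD ((DCoh.Lpull g').obj (sD (⊤ : X.Opens) n)) m) := by
        refine IsZero.of_iso ?_ ((DerivedCategory.homologyFunctor _ m).mapIso (lsec g' ⊤ n))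
        rcases lt_or_gt_of_ne hm with h | h
        · exact DerivedCategory.isZero_of_isGE (sD (g' ⁻¹ᵁ ⊤) n) n m h
        · exact DerivedCategory.isZero_of_isLE (sD (g' ⁻¹ᵁ ⊤) n) n m h
      apply (af'.homEquiv _ _).symm.injective
      have h0 := eq_zero_of_sD (X := X') hG' m hz ((lsec f' (g ⁻¹ᵁ ⊤) m).inv ≫ (af'.homEquiv _ _).symm v)
      rw [← cancel_epi (lsec f' (g ⁻¹ᵁ ⊤) m).inv, h0]
      simp [Adjunction.homEquiv_counit]
    exact ⟨fun a b _ => (h1 a).trans (h1 b).symm, fun w => ⟨0, zero_comp.trans (h2 w).symm⟩⟩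
  subst hm
  obtain ⟨P, hP, hPt⟩ := bijective_pullElt m φ N
  obtain ⟨C, hC, hCt⟩ := bijective_mul_of_pullback H
  let S : sD (⊤ : X'.Opens) m ≅ sD (⊤ : X'.Opens) m :=
    (lsec f' (g ⁻¹ᵁ ⊤) m).symm ≪≫ (DCoh.Lpull f').mapIso (lsec g ⊤ m).symm ≪≫ c.app _ ≪≫
      (DCoh.Lpull g').mapIso (lsec f ⊤ m) ≪≫ lsec g' ⊤ m
  obtain ⟨r₀, hr₀⟩ := exists_unit_of_isoD S
  let τ : (sD (g ⁻¹ᵁ ⊤) m ⟶ (DCoh.Rpush f').obj ((DCoh.Lpull g').obj (sD (⊤ : X.Opens) m))) →
      (sD (⊤ : X'.Opens) m ⟶ sD (⊤ : X'.Opens) m) := fun w =>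
    (lsec f' (g ⁻¹ᵁ ⊤) m).inv ≫ (af'.homEquiv _ _).symm w ≫ (lsec g' ⊤ m).hom
  have hτ : Function.Bijective τ :=
    bijective_congr (((lsec f' (g ⁻¹ᵁ ⊤) m).homCongr (lsec g' ⊤ m)).bijective.comp
      (af'.homEquiv _ _).symm.bijective) fun w => by simp [τ, Iso.homCongr]
  let θ := bcApp af af' c.hom (sD (⊤ : X.Opens) m)
  have key : ∀ z : B ⊗[A] N, τ (P z ≫ (DCoh.Lpull g).map u.hom ≫ θ) =
      μD le_rfl ((r₀ : Γ(X', ⊤)) * C (rl.toLinearMap.lTensor B z)) m := by
    intro z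
    induction z using TensorProduct.induction_on with
    | zero =>
      simp only [τ, map_zero, mul_zero, μD_zero, zero_comp, Adjunction.homEquiv_counit, Functor.map_zero, comp_zero]
    | add z w hz hw =>
      simp only [τ, map_add, mul_add, μD_add, Preadditive.add_comp, Adjunction.homEquiv_counit, Functor.map_add,
        Preadditive.comp_add] at hz hw ⊢
      rw [hz, hw]
    | tmul b x =>
      rw [hPt, LinearMap.lTensor_tmul, hCt]
      simp only [τ, Category.assoc]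
      rw [← Functor.map_comp_assoc, ← Category.assoc (lsec g ⊤ m).inv, ← Category.assoc (μD _ _ _),
        af'.homEquiv_naturality_left_symm, Functor.map_comp, Functor.map_comp]
      simp only [θ, bcApp, Equiv.symm_apply_apply, Category.assoc]
      have hcn := c.hom.naturality (eltMap m x ≫ u.hom)
      simp only [Functor.comp_map] at hcn
      rw [reassoc_of% hcn, ← Functor.map_comp_assoc (DCoh.Lpull g'), ← af.homEquiv_counit]
      have hx : (af.homEquiv _ _).symm (eltMap m x ≫ u.hom) = (lsec f ⊤ m).hom ≫ μD le_rfl (r x) m := by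
        rw [hr, Iso.hom_inv_id_assoc]
      rw [hx, Functor.map_comp]
      have h1 : (lsec f' (g ⁻¹ᵁ ⊤) m).inv ≫ (DCoh.Lpull f').map (μD le_rfl ((Scheme.ΓSpecIso B).inv b) m) =
          μD le_rfl (f'.appTop ((Scheme.ΓSpecIso B).inv b)) m ≫ (lsec f' (g ⁻¹ᵁ ⊤) m).inv := by
        rw [Iso.inv_comp_eq, ← Category.assoc, Iso.eq_comp_inv]
        exact lsec_naturality f' le_rfl _ m
      have h2 : (DCoh.Lpull g').map (μD (le_refl (⊤ : X.Opens)) (r x) m) ≫ (lsec g' ⊤ m).hom =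
          (lsec g' ⊤ m).hom ≫ μD le_rfl (g'.appTop (r x)) m := lsec_naturality g' le_rfl _ m
      have h3 : S.hom = (lsec f' (g ⁻¹ᵁ ⊤) m).inv ≫ (DCoh.Lpull f').map (lsec g ⊤ m).inv ≫ c.hom.app _ ≫
          (DCoh.Lpull g').map (lsec f ⊤ m).hom ≫ (lsec g' ⊤ m).hom := rfl
      rw [reassoc_of% h1, Category.assoc, h2]
      have h4 := congrArg (fun t => μD le_rfl (f'.appTop ((Scheme.ΓSpecIso B).inv b)) m ≫ t ≫
        μD le_rfl (g'.appTop (r x)) m) (h3.symm.trans hr₀.symm)
      simp only [Category.assoc] at h4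
      refine h4.trans ?_
      rw [μD_comp, μD_comp]
      congr 1
      rw [res_self, res_self]
      show _ = _ * (_ * g'.appTop (r x))
      ring
  have main : Function.Bijective fun z : B ⊗[A] N => τ (P z ≫ (DCoh.Lpull g).map u.hom ≫ θ) := by
    refine bijective_congr ?_ fun z => (key z).symm
    exact (hμ X').comp ((MulAction.bijective r₀).comp (hC.comp (rl.lTensor B).bijective))
  have hu : Function.Bijective fun z : B ⊗[A] N => P z ≫ (DCoh.Lpull g).map u.hom :=
    bijective_congr (((Iso.refl _).homCongr ((DCoh.Lpull g).mapIso u)).bijective.comp hP) fun z => by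
      simp [Iso.homCongr]
  refine (Function.Bijective.of_comp_iff' hτ _).1 ((Function.Bijective.of_comp_iff _ hu).1 ?_)
  exact bijective_congr main fun z => by simp [θ]

end Groth.Agent.PerfD40.BC
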