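import Groth.Agent.PerfD40.BC.Mate
import Groth.Agent.PerfD40.Generator
import Groth.Agent.RelPC13.BC.Square
import Groth.Agent.Dual3Lib.RestrictPull
import Groth.Agent.KFlatLib.Scheme.ProjLocFree
import Groth.Agent.KFlatLib.Scheme.RpushTriangle
import Groth.Agent.KFlatLib.Scheme.LpullLE
import Mathlib.CategoryTheory.Shift.Adjunction

/-!
# Squares of schemes satisfying derived base change
-/

set_option autoImplicit false
set_option linter.style.haveILetI false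
set_option backward.isDefEq.respectTransparency false
set_option backward.isDefEq.respectTransparency.types false

universe u

open CategoryTheory CategoryTheory.Limits AlgebraicGeometry Pretriangulated Opposite TopologicalSpace

attribute [local instance] HasDerivedCategory.standard

noncomputable section

namespace Groth.Agent.PerfD40.BC

open Groth.Agent.KFlatLib

attribute [local instance] hasLpull hasRpush_scheme

variable {X Y X' Y' : Scheme.{u}}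

theorem semiExact_rpush (f : X ⟶ Y) : SemiExact (DCoh.Rpush f) :=
  ⟨(exists_rightDerived_triangle (Scheme.Modules.pushforward f) _
      (contractible_distinguished (DCoh.inD X (Coh.structureModule X)))).1,
    fun T hT => exists_rpush_triangle f T hT⟩

theorem semiExact_lpull (f : X ⟶ Y) : SemiExact (DCoh.Lpull f) := by
  haveI := TriCat.qh_isLeftAdjoint_of_exists_resolution (A := X.Modules) exists_kInjective_res
  let adjQ := Adjunction.ofIsLeftAdjoint (DerivedCategory.Qh (C := X.Modules))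
  let ρ := (DerivedCategory.Qh (C := X.Modules)).rightAdjoint
  let W := HomotopyCategory.quasiIso X.Modules (ComplexShape.up ℤ)
  haveI : (ρ ⋙ DCoh.pushKh f).IsRightDerivedFunctor
      (Functor.whiskerRight adjQ.unit (DCoh.pushKh f)) W :=
    TriCat.isRightDerivedFunctor_of_adjunction adjQ W (DCoh.pushKh f)
  let e : ρ ⋙ DCoh.pushKh f ≅ DCoh.Rpush f :=
    Functor.rightDerivedUnique _ _ (Functor.whiskerRight adjQ.unit (DCoh.pushKh f))
      ((DCoh.pushKh f).totalRightDerivedUnit DerivedCategory.Qh W) W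
  letI := adjQ.rightAdjointCommShift ℤ
  haveI := adjQ.commShift_of_leftAdjoint ℤ
  haveI : ρ.IsTriangulated := adjQ.isTriangulated_rightAdjoint
  obtain ⟨adj⟩ := nonempty_lpull_rpush_adj f
  let a := adj.ofNatIsoRight e.symm
  letI := a.leftAdjointCommShift ℤ
  haveI := a.commShift_of_rightAdjoint ℤ
  haveI : (DCoh.Lpull f).IsTriangulated := a.isTriangulated_leftAdjoint
  exact ⟨inferInstance, fun T hT => ⟨_, (DCoh.Lpull f).map_distinguished T hT⟩⟩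

/-- Derived base change holds at `E` for the square, for every choice of the comparison data. -/
def BCAt (g' : X' ⟶ X) (f' : X' ⟶ Y') (f : X ⟶ Y) (g : Y' ⟶ Y) (E : DCoh.D X) : Prop :=
  ∀ (af : DCoh.Lpull f ⊣ DCoh.Rpush f) (af' : DCoh.Lpull f' ⊣ DCoh.Rpush f')
    (c : DCoh.Lpull g ⋙ DCoh.Lpull f' ≅ DCoh.Lpull f ⋙ DCoh.Lpull g'), IsIso (bcApp af af' c.hom E)

theorem nonempty_cell {g' : X' ⟶ X} {f' : X' ⟶ Y'} {f : X ⟶ Y} {g : Y' ⟶ Y} (w : g' ≫ f = f' ≫ g) :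
    Nonempty (DCoh.Lpull g ⋙ DCoh.Lpull f' ≅ DCoh.Lpull f ⋙ DCoh.Lpull g') := by
  obtain ⟨c₁⟩ := nonempty_lpull_comp f' g
  obtain ⟨c₂⟩ := nonempty_lpull_comp g' f
  obtain ⟨cc⟩ := FMX.nonempty_lpull_congr (f := f' ≫ g) (g := g' ≫ f) w.symm
  exact ⟨c₁ ≪≫ cc ≪≫ c₂.symm⟩

theorem bcAt_of_iso {g' : X' ⟶ X} {f' : X' ⟶ Y'} {f : X ⟶ Y} {g : Y' ⟶ Y} {E E' : DCoh.D X} (e : E ≅ E')
    (h : BCAt g' f' f g E) : BCAt g' f' f g E' := by
  intro af af' c
  haveI := h af af' c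
  haveI : IsIso ((DCoh.Lpull g).map ((DCoh.Rpush f).map e.hom) ≫ bcApp af af' c.hom E') := by
    rw [bcApp_naturality]
    infer_instance
  exact IsIso.of_isIso_comp_left ((DCoh.Lpull g).map ((DCoh.Rpush f).map e.hom)) _

/-- The base change transformation. -/
def bcNat {g' : X' ⟶ X} {f' : X' ⟶ Y'} {f : X ⟶ Y} {g : Y' ⟶ Y}
    (af : DCoh.Lpull f ⊣ DCoh.Rpush f) (af' : DCoh.Lpull f' ⊣ DCoh.Rpush f')
    (c : DCoh.Lpull g ⋙ DCoh.Lpull f' ≅ DCoh.Lpull f ⋙ DCoh.Lpull g') :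
    DCoh.Rpush f ⋙ DCoh.Lpull g ⟶ DCoh.Lpull g' ⋙ DCoh.Rpush f' where
  app E := bcApp af af' c.hom E
  naturality _ _ φ := bcApp_naturality af af' c.hom φ

theorem bcAt_obj₃ {g' : X' ⟶ X} {f' : X' ⟶ Y'} {f : X ⟶ Y} {g : Y' ⟶ Y} {T : Triangle (DCoh.D X)}
    (hT : T ∈ distTriang (DCoh.D X)) (h₁ : BCAt g' f' f g T.obj₁) (h₂ : BCAt g' f' f g T.obj₂)
    (h₁' : BCAt g' f' f g (T.obj₁⟦(1 : ℤ)⟧)) (h₂' : BCAt g' f' f g (T.obj₂⟦(1 : ℤ)⟧)) :
    BCAt g' f' f g T.obj₃ := fun af af' c =>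
  isIso_app_obj₃ ((semiExact_rpush f).comp (semiExact_lpull g)) ((semiExact_lpull g').comp (semiExact_rpush f'))
    (bcNat af af' c) hT (h₁ af af' c) (h₂ af af' c) (h₁' af af' c) (h₂' af af' c)

/-- Base change along a pasted square, read on a direct image. -/
theorem bcAt_of_vertical {U U' : Scheme.{u}} {g'' : U' ⟶ U} {j' : U' ⟶ X'} {j : U ⟶ X}
    {g' : X' ⟶ X} {f' : X' ⟶ Y'} {f : X ⟶ Y} {g : Y' ⟶ Y}
    (w₁ : g'' ≫ j = j' ≫ g') (G : DCoh.D U)
    (htot : BCAt g'' (j' ≫ f') (j ≫ f) g G) (hj : BCAt g'' j' j g' G) :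
    BCAt g' f' f g ((DCoh.Rpush j).obj G) := by
  intro af af' c
  obtain ⟨aj⟩ := nonempty_lpull_rpush_adj j
  obtain ⟨aj'⟩ := nonempty_lpull_rpush_adj j'
  obtain ⟨cj⟩ := nonempty_cell w₁
  obtain ⟨b⟩ := nonempty_lpull_rpush_adj (j ≫ f)
  obtain ⟨b'⟩ := nonempty_lpull_rpush_adj (j' ≫ f')
  obtain ⟨e⟩ := nonempty_lpull_comp j f
  obtain ⟨e'⟩ := nonempty_lpull_comp j' f'
  let ctot : DCoh.Lpull g ⋙ DCoh.Lpull (j' ≫ f') ≅ DCoh.Lpull (j ≫ f) ⋙ DCoh.Lpull g'' :=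
    Functor.isoWhiskerLeft _ e'.symm ≪≫ (Functor.associator _ _ _).symm ≪≫
      Functor.isoWhiskerRight c _ ≪≫ Functor.associator _ _ _ ≪≫ Functor.isoWhiskerLeft _ cj ≪≫
      (Functor.associator _ _ _).symm ≪≫ Functor.isoWhiskerRight e _
  have h := (isIso_bcApp_iff (af.comp aj) (af'.comp aj') (vcompCell c.hom cj.hom) b b' e e' ctot.hom
    (fun K => by simp [ctot, vcompCell]) G).2 (htot b b' ctot)
  rw [bcApp_vcomp] at h
  haveI := hj aj aj' cj
  exact IsIso.of_isIso_comp_right _ ((DCoh.Rpush f').map (bcApp aj aj' cj.hom G))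

/-- Flat base change. -/
theorem bcAt_flat {g' : X' ⟶ X} {f' : X' ⟶ Y'} {f : X ⟶ Y} {g : Y' ⟶ Y} (H : IsPullback g' f' f g)
    [QuasiCompact f] [QuasiSeparated f] [Flat g] {E : DCoh.D X} (hE : DCoh.IsQCohD E) :
    BCAt g' f' f g E := by
  intro af af' c
  haveI : Flat g' := MorphismProperty.of_isPullback H.flip inferInstance
  haveI : QuasiCompact f' := MorphismProperty.of_isPullback H inferInstance
  haveI : QuasiSeparated f' := MorphismProperty.of_isPullback H inferInstance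
  haveI := preservesHomology_pullback g
  haveI := preservesHomology_pullback g'
  haveI : PreservesFiniteLimits (Scheme.Modules.pullback g) :=
    (Scheme.Modules.pullback g).preservesFiniteLimits_of_preservesHomology
  haveI : PreservesFiniteLimits (Scheme.Modules.pullback g') :=
    (Scheme.Modules.pullback g').preservesFiniteLimits_of_preservesHomology
  obtain ⟨N⟩ := RelPC13.BC.nonempty_lpull_iso_pullD g
  obtain ⟨N'⟩ := RelPC13.BC.nonempty_lpull_iso_pullD g'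
  refine RelPC13.BC.isIso_of_bij_sD (isQCohD_lpull g (isQCohD_rpush f hE))
    (isQCohD_rpush f' (isQCohD_lpull g' hE)) _ fun y => ?_
  obtain ⟨_, ⟨V, hV, rfl⟩, hyV, -⟩ :=
    Y.isBasis_affineOpens.exists_subset_of_mem_open (Set.mem_univ (g.base y)) isOpen_univ
  obtain ⟨_, ⟨W, hW, rfl⟩, hyW, hle⟩ :=
    Y'.isBasis_affineOpens.exists_subset_of_mem_open (show y ∈ g ⁻¹ᵁ V from hyV) (g ⁻¹ᵁ V).2
  exact ⟨W, hyW, hW, fun n => RelPC13.BC.bij_comp_theta H N N' af af' c hE _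
    (by rw [bcApp, Equiv.symm_apply_apply]) hV hW hle n⟩

/-- Invertibility is local. -/
theorem isIso_of_lpull {A B : DCoh.D Y} (φ : A ⟶ B)
    (h : ∀ y : Y, ∃ (W : Scheme.{u}) (ι : W ⟶ Y) (_ : IsOpenImmersion ι),
      y ∈ Set.range ι ∧ IsIso ((DCoh.Lpull ι).map φ)) : IsIso φ := by
  obtain ⟨C, p, q, hT⟩ := distinguished_cocone_triangle φ
  refine (Triangle.isZero₃_iff_isIso₁ _ hT).1 (PerfD40.isZero_of_isZero_restrictD C fun y => ?_)
  obtain ⟨W, ι, hι, ⟨w, rfl⟩, hiso⟩ := h y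
  haveI := hι
  refine ⟨ι.opensRange, ⟨w, rfl⟩, ?_⟩
  obtain ⟨d, hd⟩ := (semiExact_lpull ι).2 _ hT
  haveI := hiso
  have hz : IsZero ((DCoh.Lpull ι).obj C) := (Triangle.isZero₃_iff_isIso₁ _ hd).2 hiso
  haveI : PreservesFiniteLimits (Scheme.Modules.restrictFunctor ι.opensRange.ι) :=
    CxOX.preservesFiniteLimits_restrictFunctor _
  obtain ⟨e⟩ := Dual3Lib.nonempty_lpull_iso_restrictD ι.opensRange.ι
  obtain ⟨e₁⟩ := nonempty_lpull_comp ι.isoOpensRange.inv ι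
  obtain ⟨e₂⟩ := FMX.nonempty_lpull_congr (f := ι.isoOpensRange.inv ≫ ι) (g := ι.opensRange.ι) (by simp)
  haveI := (semiExact_lpull ι.isoOpensRange.inv).1
  exact ((DCoh.Lpull ι.isoOpensRange.inv).map_isZero hz).of_iso ((e₁ ≪≫ e₂ ≪≫ e).app C).symm

/-- Base change is local on the source of the base change map. -/
theorem bcAt_local {g' : X' ⟶ X} {f' : X' ⟶ Y'} {f : X ⟶ Y} {g : Y' ⟶ Y} [QuasiCompact f'] [QuasiSeparated f']
    {E : DCoh.D X} (hE : DCoh.IsQCohD E)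
    (h : ∀ y : Y', ∃ (W W' : Scheme.{u}) (ι : W ⟶ Y') (ι' : W' ⟶ X') (fW : W' ⟶ W) (_ : IsOpenImmersion ι),
      y ∈ Set.range ι ∧ IsPullback ι' fW f' ι ∧ BCAt (ι' ≫ g') fW f (ι ≫ g) E) :
    BCAt g' f' f g E := by
  intro af af' c
  refine isIso_of_lpull _ fun y => ?_
  obtain ⟨W, W', ι, ι', fW, hι, hy, hsq, hb⟩ := h y
  haveI := hι
  refine ⟨W, ι, hι, hy, ?_⟩
  obtain ⟨aW⟩ := nonempty_lpull_rpush_adj fW
  obtain ⟨c₂⟩ := nonempty_cell hsq.w
  obtain ⟨γ⟩ := nonempty_lpull_comp ι g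
  obtain ⟨η⟩ := nonempty_lpull_comp ι' g'
  let ctot : DCoh.Lpull (ι ≫ g) ⋙ DCoh.Lpull fW ≅ DCoh.Lpull f ⋙ DCoh.Lpull (ι' ≫ g') :=
    Functor.isoWhiskerRight γ.symm _ ≪≫ Functor.associator _ _ _ ≪≫ Functor.isoWhiskerLeft _ c₂ ≪≫
      (Functor.associator _ _ _).symm ≪≫ Functor.isoWhiskerRight c _ ≪≫ Functor.associator _ _ _ ≪≫
      Functor.isoWhiskerLeft _ η
  have h1 := (isIso_bcApp_iff_sides af aW (hcompCell c.hom c₂.hom) γ η ctot.hom
    (fun K => by simp [ctot, hcompCell, ← Functor.map_comp_assoc]) E).2 (hb af aW ctot)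
  rw [bcApp_hcomp af af'] at h1
  haveI := bcAt_flat hsq (isQCohD_lpull g' hE) af' aW c₂
  exact IsIso.of_isIso_comp_right _ (bcApp af' aW c₂.hom ((DCoh.Lpull g').obj E))

/-- Base change into an open piece of the target. -/
theorem bcAt_of_target_open {A XA : Scheme.{u}} {gA' : X' ⟶ XA} {f' : X' ⟶ Y'} {fA : XA ⟶ A}
    {gA : Y' ⟶ A} {ι : A ⟶ Y} [IsOpenImmersion ι] {ι' : XA ⟶ X} {f : X ⟶ Y} [QuasiCompact f] [QuasiSeparated f]
    (hsq : IsPullback ι' fA f ι) {g' : X' ⟶ X} {g : Y' ⟶ Y} (hg' : gA' ≫ ι' = g') (hg : gA ≫ ι = g)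
    {E : DCoh.D X} (hE : DCoh.IsQCohD E) (h : BCAt gA' f' fA gA ((DCoh.Lpull ι').obj E)) :
    BCAt g' f' f g E := by
  subst hg' hg
  intro af af' c
  obtain ⟨aA⟩ := nonempty_lpull_rpush_adj fA
  obtain ⟨cι⟩ := nonempty_cell hsq.w
  obtain ⟨γ⟩ := nonempty_lpull_comp gA ι
  obtain ⟨η⟩ := nonempty_lpull_comp gA' ι'
  obtain ⟨adj⟩ := nonempty_lpull_rpush_adj ι
  haveI : PreservesFiniteLimits (Scheme.Modules.restrictFunctor ι) :=
    CxOX.preservesFiniteLimits_restrictFunctor _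
  obtain ⟨eres⟩ := Dual3Lib.nonempty_lpull_iso_restrictD ι
  obtain ⟨eid⟩ := nonempty_rpush_restrictD_self ι
  haveI : IsIso adj.counit :=
    adj.isIso_counit_of_iso (Functor.isoWhiskerLeft _ eres ≪≫ eid)
  let φ : (DCoh.Lpull ι ⋙ DCoh.Lpull gA) ⋙ DCoh.Lpull f' ≅
      DCoh.Lpull f ⋙ (DCoh.Lpull ι' ⋙ DCoh.Lpull gA') :=
    Functor.isoWhiskerRight γ _ ≪≫ c ≪≫ Functor.isoWhiskerLeft _ η.symm
  obtain ⟨cA, hcA⟩ := exists_iso_of_comp adj (P := DCoh.Lpull gA ⋙ DCoh.Lpull f')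
    (Q := DCoh.Lpull fA ⋙ DCoh.Lpull gA')
    ((Functor.associator _ _ _).symm ≪≫ φ ≪≫ (Functor.associator _ _ _).symm ≪≫
      Functor.isoWhiskerRight cι.symm _ ≪≫ Functor.associator _ _ _)
  refine (isIso_bcApp_iff_sides af af' (hcompCell cι.hom cA.hom) γ η c.hom (fun K => ?_) E).1 ?_
  · simp [hcompCell, hcA, φ]
  · rw [bcApp_hcomp af aA]
    haveI := bcAt_flat hsq hE af aA cι
    haveI := h aA af' cA
    infer_instance

end Groth.Agent.PerfD40.BC
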