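import Groth.Agent.PerfD40.BC.Basic
import Groth.Agent.KFlatLib.Scheme.RpushCoprodQCoh
import Groth.Agent.KFlatLib.Scheme.MVPush

/-!
# Closure properties of the objects satisfying base change
-/

set_option autoImplicit false
set_option linter.style.haveILetI false
set_option backward.isDefEq.respectTransparency false
set_option backward.isDefEq.respectTransparency.types false

universe u

open CategoryTheory CategoryTheory.Limits AlgebraicGeometry Pretriangulated TopologicalSpace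

attribute [local instance] HasDerivedCategory.standard

noncomputable section

namespace Groth.Agent.PerfD40.BC

open Groth.Agent.KFlatLib

attribute [local instance] hasLpull hasRpush_scheme

variable {X Y X' Y' : Scheme.{u}} {g' : X' ⟶ X} {f' : X' ⟶ Y'} {f : X ⟶ Y} {g : Y' ⟶ Y}

/-- Derived direct images commute with shifts. -/
theorem nonempty_rpush_shift (h : X ⟶ Y) (G : DCoh.D X) (n : ℤ) :
    Nonempty (((DCoh.Rpush h).obj G)⟦n⟧ ≅ (DCoh.Rpush h).obj (G⟦n⟧)) := by
  haveI := TriCat.qh_isLeftAdjoint_of_exists_resolution (A := X.Modules) exists_kInjective_res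
  let adjQ := Adjunction.ofIsLeftAdjoint (DerivedCategory.Qh (C := X.Modules))
  let ρ := (DerivedCategory.Qh (C := X.Modules)).rightAdjoint
  let W := HomotopyCategory.quasiIso X.Modules (ComplexShape.up ℤ)
  haveI : (ρ ⋙ DCoh.pushKh h).IsRightDerivedFunctor
      (Functor.whiskerRight adjQ.unit (DCoh.pushKh h)) W :=
    TriCat.isRightDerivedFunctor_of_adjunction adjQ W (DCoh.pushKh h)
  let e : ρ ⋙ DCoh.pushKh h ≅ DCoh.Rpush h :=
    Functor.rightDerivedUnique _ _ (Functor.whiskerRight adjQ.unit (DCoh.pushKh h))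
      ((DCoh.pushKh h).totalRightDerivedUnit DerivedCategory.Qh W) W
  letI := adjQ.rightAdjointCommShift ℤ
  exact ⟨(shiftFunctor _ n).mapIso (e.app G).symm ≪≫ (((ρ ⋙ DCoh.pushKh h).commShiftIso n).app G).symm ≪≫
    e.app _⟩

/-- Derived pullbacks commute with shifts. -/
theorem nonempty_lpull_shift (h : X ⟶ Y) (G : DCoh.D Y) (n : ℤ) :
    Nonempty (((DCoh.Lpull h).obj G)⟦n⟧ ≅ (DCoh.Lpull h).obj (G⟦n⟧)) := by
  haveI := TriCat.qh_isLeftAdjoint_of_exists_resolution (A := X.Modules) exists_kInjective_res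
  let adjQ := Adjunction.ofIsLeftAdjoint (DerivedCategory.Qh (C := X.Modules))
  let ρ := (DerivedCategory.Qh (C := X.Modules)).rightAdjoint
  let W := HomotopyCategory.quasiIso X.Modules (ComplexShape.up ℤ)
  haveI : (ρ ⋙ DCoh.pushKh h).IsRightDerivedFunctor
      (Functor.whiskerRight adjQ.unit (DCoh.pushKh h)) W :=
    TriCat.isRightDerivedFunctor_of_adjunction adjQ W (DCoh.pushKh h)
  let e : ρ ⋙ DCoh.pushKh h ≅ DCoh.Rpush h :=
    Functor.rightDerivedUnique _ _ (Functor.whiskerRight adjQ.unit (DCoh.pushKh h))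
      ((DCoh.pushKh h).totalRightDerivedUnit DerivedCategory.Qh W) W
  letI := adjQ.rightAdjointCommShift ℤ
  obtain ⟨adj⟩ := nonempty_lpull_rpush_adj h
  let a := adj.ofNatIsoRight e.symm
  letI := a.leftAdjointCommShift ℤ
  exact ⟨(((DCoh.Lpull h).commShiftIso n).app G).symm⟩

/-- Base change holds at all shifts. -/
def BCShifts (g' : X' ⟶ X) (f' : X' ⟶ Y') (f : X ⟶ Y) (g : Y' ⟶ Y) (E : DCoh.D X) : Prop :=
  ∀ n : ℤ, BCAt g' f' f g (E⟦n⟧)

theorem BCShifts.bcAt {E : DCoh.D X} (h : BCShifts g' f' f g E) : BCAt g' f' f g E :=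
  bcAt_of_iso ((shiftFunctorZero (DCoh.D X) ℤ).app E) (h 0)

theorem BCShifts.of_iso {E E' : DCoh.D X} (e : E ≅ E') (h : BCShifts g' f' f g E) : BCShifts g' f' f g E' :=
  fun n => bcAt_of_iso ((shiftFunctor (DCoh.D X) n).mapIso e) (h n)

theorem BCShifts.shift {E : DCoh.D X} (h : BCShifts g' f' f g E) (k : ℤ) : BCShifts g' f' f g (E⟦k⟧) :=
  fun n => bcAt_of_iso ((shiftFunctorAdd (DCoh.D X) k n).app E) (h (k + n))

theorem BCShifts.of_shift {E : DCoh.D X} {k : ℤ} (h : BCShifts g' f' f g (E⟦k⟧)) : BCShifts g' f' f g E :=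
  (h.shift (-k)).of_iso ((shiftFunctorCompIsoId (DCoh.D X) k (-k) (by omega)).app E)

theorem BCShifts.obj₃ {T : Triangle (DCoh.D X)} (hT : T ∈ distTriang (DCoh.D X))
    (h₁ : BCShifts g' f' f g T.obj₁) (h₂ : BCShifts g' f' f g T.obj₂) : BCShifts g' f' f g T.obj₃ := fun n =>
  bcAt_obj₃ (T := (Triangle.shiftFunctor (DCoh.D X) n).obj T) (Triangle.shift_distinguished T hT n)
    (h₁ n) (h₂ n) ((h₁.shift n) 1) ((h₂.shift n) 1)

theorem BCShifts.obj₁ {T : Triangle (DCoh.D X)} (hT : T ∈ distTriang (DCoh.D X))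
    (h₂ : BCShifts g' f' f g T.obj₂) (h₃ : BCShifts g' f' f g T.obj₃) : BCShifts g' f' f g T.obj₁ :=
  BCShifts.of_shift (k := 1) (BCShifts.obj₃ (rot_of_distTriang _ hT) h₂ h₃)

theorem BCShifts.obj₂ {T : Triangle (DCoh.D X)} (hT : T ∈ distTriang (DCoh.D X))
    (h₁ : BCShifts g' f' f g T.obj₁) (h₃ : BCShifts g' f' f g T.obj₃) : BCShifts g' f' f g T.obj₂ :=
  BCShifts.obj₃ (inv_rot_of_distTriang _ hT) (h₃.shift (-1)) h₁

theorem BCShifts.biprod {A B : DCoh.D X} [HasBinaryBiproduct A B] (hA : BCShifts g' f' f g A)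
    (hB : BCShifts g' f' f g B) : BCShifts g' f' f g (A ⊞ B) :=
  BCShifts.obj₂ (binaryBiproductTriangle_distinguished A B) hA hB

/-- Coproducts of objects with quasi-coherent cohomology. -/
theorem bcAt_sigma [QuasiCompact f] [QuasiSeparated f] [QuasiCompact f'] [QuasiSeparated f'] {J : Type u}
    (C : J → DCoh.D X) (hC : ∀ j, DCoh.IsQCohD (C j)) [HasCoproduct C] (h : ∀ j, BCAt g' f' f g (C j)) :
    BCAt g' f' f g (∐ C) := by
  intro af af' c
  haveI : HasColimitsOfShape (Discrete J) (DCoh.D X) := TriCat.hasColimitsOfShape_derivedCategory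
  haveI : HasColimitsOfShape (Discrete J) (DCoh.D Y) := TriCat.hasColimitsOfShape_derivedCategory
  haveI : HasColimitsOfShape (Discrete J) (DCoh.D X') := TriCat.hasColimitsOfShape_derivedCategory
  haveI : HasColimitsOfShape (Discrete J) (DCoh.D Y') := TriCat.hasColimitsOfShape_derivedCategory
  obtain ⟨ag⟩ := nonempty_lpull_rpush_adj g
  obtain ⟨ag'⟩ := nonempty_lpull_rpush_adj g'
  haveI := ag.isLeftAdjoint
  haveI := ag'.isLeftAdjoint
  let F := DCoh.Rpush f ⋙ DCoh.Lpull g
  let G := DCoh.Lpull g' ⋙ DCoh.Rpush f'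
  let η : F ⟶ G := bcNat af af' c
  haveI : IsIso (sigmaComparison (DCoh.Rpush f) C) := isIso_sigmaDesc_rpush f C hC
  haveI : IsIso (sigmaComparison (DCoh.Lpull g) fun j => (DCoh.Rpush f).obj (C j)) := inferInstance
  haveI : IsIso (sigmaComparison (DCoh.Lpull g') C) := inferInstance
  haveI : IsIso (sigmaComparison (DCoh.Rpush f') fun j => (DCoh.Lpull g').obj (C j)) :=
    isIso_sigmaDesc_rpush f' _ fun j => isQCohD_lpull g' (hC j)
  have hF : sigmaComparison F C = sigmaComparison (DCoh.Lpull g) (fun j => (DCoh.Rpush f).obj (C j)) ≫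
      (DCoh.Lpull g).map (sigmaComparison (DCoh.Rpush f) C) :=
    Sigma.hom_ext _ _ fun j => by
      rw [ι_comp_sigmaComparison]
      exact ((ι_comp_sigmaComparison_assoc (DCoh.Lpull g) (fun j => (DCoh.Rpush f).obj (C j)) j _).trans
        (((DCoh.Lpull g).map_comp _ _).symm.trans
          (congrArg (DCoh.Lpull g).map (ι_comp_sigmaComparison (DCoh.Rpush f) C j)))).symm
  have hG : sigmaComparison G C = sigmaComparison (DCoh.Rpush f') (fun j => (DCoh.Lpull g').obj (C j)) ≫
      (DCoh.Rpush f').map (sigmaComparison (DCoh.Lpull g') C) :=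
    Sigma.hom_ext _ _ fun j => by
      rw [ι_comp_sigmaComparison]
      exact ((ι_comp_sigmaComparison_assoc (DCoh.Rpush f') (fun j => (DCoh.Lpull g').obj (C j)) j _).trans
        (((DCoh.Rpush f').map_comp _ _).symm.trans
          (congrArg (DCoh.Rpush f').map (ι_comp_sigmaComparison (DCoh.Lpull g') C j)))).symm
  haveI : IsIso (sigmaComparison F C) := by rw [hF]; infer_instance
  haveI : IsIso (sigmaComparison G C) := by rw [hG]; infer_instance
  haveI : ∀ j, IsIso (η.app (C j)) := fun j => h j af af' c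
  have key : sigmaComparison F C ≫ η.app (∐ C) =
      Limits.Sigma.map (fun j => η.app (C j)) ≫ sigmaComparison G C :=
    Sigma.hom_ext _ _ fun j => by simp
  haveI : IsIso (sigmaComparison F C ≫ η.app (∐ C)) := by rw [key]; infer_instance
  exact IsIso.of_isIso_comp_left (sigmaComparison F C) (η.app (∐ C))

theorem bcShifts_sigma [QuasiCompact f] [QuasiSeparated f] [QuasiCompact f'] [QuasiSeparated f'] {J : Type u}
    (C : J → DCoh.D X) (hC : ∀ j, DCoh.IsQCohD (C j)) [HasCoproduct C] (h : ∀ j, BCShifts g' f' f g (C j)) :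
    BCShifts g' f' f g (∐ C) := fun n => by
  haveI : HasColimitsOfShape (Discrete J) (DCoh.D X) := TriCat.hasColimitsOfShape_derivedCategory
  exact bcAt_of_iso (PreservesCoproduct.iso (shiftFunctor (DCoh.D X) n) C).symm
    (bcAt_sigma (fun j => (C j)⟦n⟧) (fun j => isQCohD_shift (hC j) n) fun j => h j n)

/-- Mayer-Vietoris: base change for the pieces and their embeddings gives base change. -/
theorem bcShifts_of_cover (U V : X.Opens) (hUV : U ⊔ V = ⊤) {E : DCoh.D X} (hE : DCoh.IsQCohD E)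
    (h : ∀ W : X.Opens, W = U ∨ W = V ∨ W = U ⊓ V → ∀ G : DCoh.D (W : Scheme.{u}), DCoh.IsQCohD G →
      BCAt g' f' f g ((DCoh.Rpush W.ι).obj G)) : BCShifts g' f' f g E := by
  haveI : ∀ W : X.Opens, PreservesFiniteLimits (Scheme.Modules.restrictFunctor W.ι) :=
    fun W => CxOX.preservesFiniteLimits_restrictFunctor _
  obtain ⟨a, b, c, hT⟩ := exists_mvRpush_triangle U V hUV E
  have key : ∀ W : X.Opens, W = U ∨ W = V ∨ W = U ⊓ V →
      BCShifts g' f' f g ((DCoh.Rpush W.ι).obj ((DCoh.restrictD W.ι).obj E)) := fun W hW n => by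
    obtain ⟨e⟩ := nonempty_rpush_shift W.ι ((DCoh.restrictD W.ι).obj E) n
    exact bcAt_of_iso e.symm (h W hW _ (isQCohD_shift (isQCohD_restrictD W.ι hE) n))
  exact BCShifts.obj₁ hT ((key U (Or.inl rfl)).biprod (key V (Or.inr (Or.inl rfl))))
    (key (U ⊓ V) (Or.inr (Or.inr rfl)))

end Groth.Agent.PerfD40.BC
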