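import Groth.Agent.PerfD40.BC.AffineCase
import Groth.Agent.PerfD40.BC.Closure
import Groth.Agent.PerfD40.CompactAffine
import Groth.Agent.KFlatLib.Ring.DerivedInduction
import Groth.Agent.S3527

/-!
# Derived base change over an affine base, by induction on affine covers
-/

set_option autoImplicit false
set_option linter.style.haveILetI false
set_option backward.isDefEq.respectTransparency false
set_option backward.isDefEq.respectTransparency.types false
set_option maxHeartbeats 400000

universe u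

open CategoryTheory CategoryTheory.Limits AlgebraicGeometry Pretriangulated TopologicalSpace

attribute [local instance] HasDerivedCategory.standard

noncomputable section

namespace Groth.Agent.PerfD40.BC

open Groth.Agent.KFlatLib Groth.Agent.RelPC13.BC

attribute [local instance] hasLpull hasRpush_scheme

/-- `B` is Tor-independent over `A` with the functions on every affine open of `X`. -/
def TorFam {A B : CommRingCat.{u}} (φ : A ⟶ B) {X : Scheme.{u}} (f : X ⟶ Spec A) : Prop :=
  ∀ V : X.Opens, IsAffineOpen V → ∀ i : ℕ, 0 < i →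
    letI := φ.hom.toAlgebra
    letI := ((Scheme.ΓSpecIso A).inv ≫ f.appLE ⊤ V le_top).hom.toAlgebra
    Subsingleton (DRing.Tor A i B Γ(X, V))

/-- Vanishing of Tor does not change along an isomorphism of algebras. -/
theorem subsingleton_tor_of_iso {A B C C' : CommRingCat.{u}} (φ : A ⟶ B) (ψ : A ⟶ C) (ψ' : A ⟶ C')
    (e : C ≅ C') (he : ψ ≫ e.hom = ψ') (i : ℕ)
    (h : letI := φ.hom.toAlgebra; letI := ψ.hom.toAlgebra; Subsingleton (DRing.Tor A i B C)) :
    letI := φ.hom.toAlgebra; letI := ψ'.hom.toAlgebra; Subsingleton (DRing.Tor A i B C') := by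
  letI := φ.hom.toAlgebra
  letI := ψ.hom.toAlgebra
  letI := ψ'.hom.toAlgebra
  let l : C ≃ₗ[A] C' :=
    { e.commRingCatIsoToRingEquiv.toAddEquiv with
      map_smul' := fun a x => by
        show e.hom (ψ a * x) = ψ' a * e.hom x
        rw [map_mul, ← he]
        rfl }
  haveI := h
  exact (((CategoryTheory.Tor (ModuleCat.{u} A) i).obj (ModuleCat.of A B)).mapIso
    l.toModuleIso).toLinearEquiv.toEquiv.symm.subsingleton

/-- The family restricts to open subschemes. -/
theorem TorFam.comp_open {A B : CommRingCat.{u}} {φ : A ⟶ B} {X U : Scheme.{u}} {f : X ⟶ Spec A}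
    (h : TorFam φ f) (j : U ⟶ X) [IsOpenImmersion j] : TorFam φ (j ≫ f) := fun V hV i hi =>
  subsingleton_tor_of_iso φ _ _ (j.appIso V) (by
    rw [Category.assoc, Scheme.Hom.appIso_hom', Scheme.Hom.appLE_comp_appLE]) i
    (h (j ''ᵁ V) (hV.image_of_isOpenImmersion j) i hi)

/-- Flat schemes over the base are Tor-independent of everything. -/
theorem torFam_of_flat {A B : CommRingCat.{u}} (φ : A ⟶ B) {X : Scheme.{u}} (f : X ⟶ Spec A) [Flat f] :
    TorFam φ f := fun V hV i hi => by
  letI := φ.hom.toAlgebra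
  letI := ((Scheme.ΓSpecIso A).inv ≫ f.appLE ⊤ V le_top).hom.toAlgebra
  have h₁ : RingHom.Flat (f.appLE ⊤ V le_top).hom :=
    HasRingHomProperty.appLE @Flat f inferInstance ⟨⊤, isAffineOpen_top _⟩ ⟨V, hV⟩ le_top
  have h₂ : RingHom.Flat ((Scheme.ΓSpecIso A).inv ≫ f.appLE ⊤ V le_top).hom :=
    (RingHom.Flat.of_bijective (Scheme.ΓSpecIso A).symm.commRingCatIsoToRingEquiv.bijective).comp h₁
  haveI : Module.Flat A Γ(X, V) := h₂
  exact (S3527.result A Γ(X, V) B i hi).2

/-- Base change holds for every affine base change of every Tor-independent morphism to an affine scheme. -/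
def Good (X : Scheme.{u}) : Prop :=
  ∀ (A B : CommRingCat.{u}) (φ : A ⟶ B) (f : X ⟶ Spec A), TorFam φ f →
    ∀ {X' : Scheme.{u}} (g' : X' ⟶ X) (f' : X' ⟶ Spec B), IsPullback g' f' f (Spec.map φ) →
      ∀ E : DCoh.D X, DCoh.IsQCohD E → BCAt g' f' f (Spec.map φ) E

/-- Base change may be tested on affine charts of both bases. -/
theorem bcAt_of_affines {X Y X' Y' : Scheme.{u}} {g' : X' ⟶ X} {f' : X' ⟶ Y'} {f : X ⟶ Y} {g : Y' ⟶ Y}
    (H : IsPullback g' f' f g) [QuasiCompact f] [QuasiSeparated f] {E : DCoh.D X} (hE : DCoh.IsQCohD E)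
    (h : ∀ (U : Y.Opens) (hU : IsAffineOpen U) (U' : Y'.Opens), IsAffineOpen U' → ∀ (hle : U' ≤ g ⁻¹ᵁ U)
      {XA : Scheme.{u}} (ιA : XA ⟶ X) (fA : XA ⟶ Spec Γ(Y, U)), IsPullback ιA fA f hU.fromSpec →
      Good XA ∧ TorFam (g.appLE U U' hle) fA) :
    BCAt g' f' f g E := by
  haveI : QuasiCompact f' := MorphismProperty.of_isPullback H inferInstance
  haveI : QuasiSeparated f' := MorphismProperty.of_isPullback H inferInstance
  refine bcAt_local hE fun y => ?_
  obtain ⟨_, ⟨U, hU, rfl⟩, hyU, -⟩ :=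
    Y.isBasis_affineOpens.exists_subset_of_mem_open (Set.mem_univ (g.base y)) isOpen_univ
  obtain ⟨_, ⟨U', hU', rfl⟩, hyU', hle⟩ :=
    Y'.isBasis_affineOpens.exists_subset_of_mem_open (show y ∈ g ⁻¹ᵁ U from hyU) (g ⁻¹ᵁ U).2
  let φ := g.appLE U U' hle
  have w : Spec.map φ ≫ hU.fromSpec = hU'.fromSpec ≫ g := hU.SpecMap_appLE_fromSpec g hU' hle
  have hW := IsPullback.of_hasPullback f' hU'.fromSpec
  have hA := IsPullback.of_hasPullback f hU.fromSpec
  refine ⟨_, _, hU'.fromSpec, _, _, inferInstance, by rw [hU'.range_fromSpec]; exact hyU', hW, ?_⟩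
  let gA' := hA.lift (pullback.fst f' hU'.fromSpec ≫ g') (pullback.snd f' hU'.fromSpec ≫ Spec.map φ)
    (by rw [Category.assoc, H.w, hW.w_assoc, Category.assoc, w])
  have hbig : IsPullback (pullback.fst f' hU'.fromSpec ≫ g') (pullback.snd f' hU'.fromSpec) f
      (Spec.map φ ≫ hU.fromSpec) := by
    rw [w]
    exact hW.paste_horiz H
  have hsmall : IsPullback gA' (pullback.snd f' hU'.fromSpec) (pullback.snd f hU.fromSpec) (Spec.map φ) :=
    IsPullback.of_right (by rw [hA.lift_fst]; exact hbig) (hA.lift_snd _ _ _) hA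
  obtain ⟨hgood, htor⟩ := h U hU U' hU' hle _ _ hA
  exact bcAt_of_target_open hA (hA.lift_fst _ _ _) w hE
    (hgood _ _ φ _ htor _ _ hsmall _ (isQCohD_lpull _ hE))

section Affine

variable {A B : CommRingCat.{u}} {φ : A ⟶ B} {X X' : Scheme.{u}} {g' : X' ⟶ X} {f' : X' ⟶ Spec B}
  {f : X ⟶ Spec A}

theorem bcShifts_sD_top [IsAffine X] (H : IsPullback g' f' f (Spec.map φ)) (h : TorFam φ f) (n : ℤ) :
    BCShifts g' f' f (Spec.map φ) (sD (⊤ : X.Opens) n) := fun m => by
  refine bcAt_of_iso (((DerivedCategory.singleFunctors X.Modules).shiftIso m (n - m) n (by omega)).app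
    (secObj (⊤ : X.Opens))).symm (bcAt_generator H (n - m) fun i hi => ?_)
  have := h ⊤ (isAffineOpen_top X) i hi
  rw [show f.appTop = f.appLE ⊤ ⊤ le_top from f.app_eq_appLE]
  exact this

/-- The affine case. -/
theorem bcShifts_of_isAffine [IsAffine X] (H : IsPullback g' f' f (Spec.map φ)) (h : TorFam φ f)
    (E : DCoh.D X) (hE : DCoh.IsQCohD E) : BCShifts g' f' f (Spec.map φ) E := by
  let R : CommRingCat.{u} := Γ(X, ⊤)
  let k : X ⟶ Spec R := X.isoSpec.hom
  haveI : IsAffineHom f := inferInstance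
  haveI : IsAffineHom f' := MorphismProperty.of_isPullback H inferInstance
  haveI : ∀ {U V : Scheme.{u}} (j : U ⟶ V) [IsOpenImmersion j],
      PreservesFiniteLimits (Scheme.Modules.restrictFunctor j) :=
    fun j _ => CxOX.preservesFiniteLimits_restrictFunctor j
  let Ψ := DCoh.tildeD R ⋙ DCoh.restrictD k
  obtain ⟨ek⟩ := Dual3Lib.nonempty_lpull_iso_restrictD k
  obtain ⟨ak⟩ := nonempty_lpull_rpush_adj k
  haveI := ak.isLeftAdjoint
  let P : ObjectProperty (DerivedCategory (ModuleCat.{u} R)) :=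
    fun M => BCShifts g' f' f (Spec.map φ) (Ψ.obj M)
  haveI : P.IsClosedUnderIsomorphisms := ⟨fun e hM => hM.of_iso (Ψ.mapIso e)⟩
  have main : ∀ M, P M := by
    refine derived_induction P (fun T hT h₁ h₂ => BCShifts.obj₃ (Ψ.map_distinguished T hT) h₁ h₂)
      (fun J K hK => ?_) fun n => ?_
    · haveI : HasColimitsOfShape (Discrete J) (DCoh.D (Spec R)) := TriCat.hasColimitsOfShape_derivedCategory
      haveI : HasColimitsOfShape (Discrete J) (DCoh.D X) := TriCat.hasColimitsOfShape_derivedCategory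
      haveI : HasColimitsOfShape (Discrete J) (DerivedCategory (ModuleCat.{u} R)) :=
        TriCat.hasColimitsOfShape_derivedCategory
      haveI := preservesColimit_Q K
      haveI := isIso_sigmaComparison_tildeD (A := R) fun j => DerivedCategory.Q.obj (K j)
      haveI : PreservesColimit (Discrete.functor fun j => (DCoh.tildeD R).obj (DerivedCategory.Q.obj (K j)))
          (DCoh.restrictD k) := preservesColimit_of_natIso _ ek
      exact (bcShifts_sigma (fun j => Ψ.obj (DerivedCategory.Q.obj (K j)))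
        (fun j => isQCohD_restrictD k (isQCohD_tildeD R _)) hK).of_iso
        ((PreservesCoproduct.iso (DCoh.restrictD k) _).symm ≪≫
          (DCoh.restrictD k).mapIso (asIso (sigmaComparison (DCoh.tildeD R) _) ≪≫
            (DCoh.tildeD R).mapIso (PreservesCoproduct.iso DerivedCategory.Q K).symm))
    · refine (bcShifts_sD_top H h n).of_iso (Iso.symm ?_)
      exact (DCoh.restrictD k).mapIso
          ((DCoh.tildeD R).mapIso
              ((DerivedCategory.singleFunctorIsoCompQ (ModuleCat.{u} R) n).app (ModuleCat.of R R)).symm ≪≫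
            ((tilde.functor R).mapDerivedCategorySingleFunctor n).app (ModuleCat.of R R) ≪≫
            (DerivedCategory.singleFunctor (Spec R).Modules n).mapIso tildeRIsoSecObj) ≪≫
        (ek.app _).symm ≪≫ lsec k ⊤ n
  obtain ⟨M, ⟨e⟩⟩ := exists_tildeD_iso (isQCohD_restrictD X.isoSpec.inv hE)
  exact (main M).of_iso ((DCoh.restrictD k).mapIso e ≪≫
    (restrictDComp k X.isoSpec.inv (𝟙 X) X.isoSpec.hom_inv_id).app E ≪≫ (restrictDId _).app E)

theorem good_of_isAffine (X : Scheme.{u}) [IsAffine X] : Good X :=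
  fun _ _ _ _ h _ _ _ H E hE => (bcShifts_of_isAffine H h E hE).bcAt

end Affine

/-- Gluing two opens. -/
theorem good_of_cover {X : Scheme.{u}} [CompactSpace X] [QuasiSeparatedSpace X] (U V : X.Opens) (hUV : U ⊔ V = ⊤)
    (hc : ∀ W : X.Opens, W = U ∨ W = V ∨ W = U ⊓ V → IsCompact (W : Set X))
    (hg : ∀ W : X.Opens, W = U ∨ W = V ∨ W = U ⊓ V → Good W)
    (hloc : ∀ W : X.Opens, W = U ∨ W = V ∨ W = U ⊓ V → ∀ (T : X.Opens) (hT : IsAffineOpen T)
      {XA : Scheme.{u}} (ιA : XA ⟶ W) (fA : XA ⟶ Spec Γ(X, T)),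
      IsPullback ιA fA W.ι hT.fromSpec → Good XA) :
    Good X := by
  intro A B φ f htor X' g' f' H E hE
  refine (bcShifts_of_cover U V hUV hE fun W hW G hG => ?_).bcAt
  haveI : CompactSpace (W : Scheme.{u}) := isCompact_iff_compactSpace.1 (hc W hW)
  haveI : QuasiCompact W.ι := quasiCompact_of_compactSpace W.ι
  have hsq : IsPullback (g' ∣_ W) (g' ⁻¹ᵁ W).ι W.ι g' := isPullback_morphismRestrict g' W
  refine bcAt_of_vertical hsq.w G (hg W hW A B φ _ (htor.comp_open W.ι) _ _ (hsq.paste_vert H) G hG) ?_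
  refine bcAt_of_affines hsq hG fun T hT T' hT' hle XA ιA fA hA => ⟨hloc W hW T hT ιA fA hA, ?_⟩
  haveI : IsOpenImmersion fA := MorphismProperty.of_isPullback hA inferInstance
  exact torFam_of_flat _ fA

/-- A scheme covered by `n` affine opens. -/
def NAff (n : ℕ) (X : Scheme.{u}) : Prop :=
  ∃ W : Fin n → X.Opens, (∀ i, IsAffineOpen (W i)) ∧ ⨆ i, W i = ⊤

theorem NAff.preimage {n : ℕ} {X Y : Scheme.{u}} (h : X ⟶ Y) [IsAffineHom h] (hY : NAff n Y) : NAff n X := by
  obtain ⟨W, hW, hcov⟩ := hY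
  refine ⟨fun i => h ⁻¹ᵁ W i, fun i => (hW i).preimage h, top_unique fun x _ => ?_⟩
  obtain ⟨i, hi⟩ := Opens.mem_iSup.1 (hcov.ge (show h x ∈ (⊤ : Y.Opens) from trivial))
  exact Opens.mem_iSup.2 ⟨i, hi⟩

theorem NAff.compactSpace {n : ℕ} {X : Scheme.{u}} (hX : NAff n X) : CompactSpace X := by
  obtain ⟨W, hW, hcov⟩ := hX
  refine ⟨?_⟩
  rw [← Opens.coe_top, ← hcov, Opens.coe_iSup]
  exact isCompact_iUnion fun i => (hW i).isCompact

theorem isSeparated_of_mono {U X : Scheme.{u}} (j : U ⟶ X) [IsOpenImmersion j] [X.IsSeparated] :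
    U.IsSeparated :=
  ⟨by rw [show terminal.from U = j ≫ terminal.from X from terminal.hom_ext _ _]; infer_instance⟩

theorem isAffineHom_to_separated {U X : Scheme.{u}} (a : U ⟶ X) [IsAffine U] [X.IsSeparated] :
    IsAffineHom a := by
  haveI : IsAffineHom (a ≫ terminal.from X) := inferInstance
  exact IsAffineHom.of_comp a (terminal.from X)

/-- Separated schemes with a finite affine cover. -/
theorem good_of_isSeparated : ∀ (n : ℕ) {X : Scheme.{u}} [X.IsSeparated], IsAffine X ∨ NAff n X → Good X := by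
  intro n
  induction n with
  | zero =>
    intro X _ h
    rcases h with h | ⟨W, -, hcov⟩
    · exact good_of_isAffine X
    · haveI : IsEmpty X := ⟨fun x => by
        obtain ⟨i, -⟩ := Opens.mem_iSup.1 (hcov.ge (show x ∈ (⊤ : X.Opens) from trivial))
        exact i.elim0⟩
      haveI : IsAffine X := inferInstance
      exact good_of_isAffine X
  | succ n ih =>
    intro X _ h
    rcases h with h | hX
    · exact good_of_isAffine X
    haveI := hX.compactSpace
    obtain ⟨W, hW, hcov⟩ := hX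
    haveI : IsAffine (W 0 : Scheme.{u}) := hW 0
    haveI : IsAffineHom (W 0).ι := isAffineHom_to_separated (W 0).ι
    let U := W 0
    let V : X.Opens := ⨆ i : Fin n, W i.succ
    have hUV : U ⊔ V = ⊤ := by
      refine top_unique (hcov.ge.trans (iSup_le fun i => ?_))
      cases i using Fin.cases with
      | zero => exact le_sup_left
      | succ i => exact le_sup_of_le_right (le_iSup (fun i : Fin n => W i.succ) i)
    have hV : NAff n V := by
      refine ⟨fun i => V.ι ⁻¹ᵁ W i.succ, fun i => (hW i.succ).preimage_of_isOpenImmersion V.ι (by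
        rw [Scheme.Opens.opensRange_ι]; exact le_iSup (fun i : Fin n => W i.succ) i), top_unique fun x _ => ?_⟩
      obtain ⟨i, hi⟩ := Opens.mem_iSup.1 x.2
      exact Opens.mem_iSup.2 ⟨i, hi⟩
    have hUVn : NAff n (U ⊓ V : X.Opens) := by
      refine ⟨fun i => (U ⊓ V).ι ⁻¹ᵁ (U ⊓ W i.succ), fun i => ?_, top_unique fun x _ => ?_⟩
      · refine IsAffineOpen.preimage_of_isOpenImmersion ?_ _ (by
          rw [Scheme.Opens.opensRange_ι]
          exact inf_le_inf_left U (le_iSup (fun i : Fin n => W i.succ) i))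
        have := ((hW i.succ).preimage U.ι).image_of_isOpenImmersion U.ι
        rwa [Scheme.Hom.image_preimage_eq_opensRange_inf, Scheme.Opens.opensRange_ι] at this
      · obtain ⟨i, hi⟩ := Opens.mem_iSup.1 x.2.2
        exact Opens.mem_iSup.2 ⟨i, x.2.1, hi⟩
    have key : ∀ O : X.Opens, O = U ∨ O = V ∨ O = U ⊓ V → IsAffine O ∨ NAff n O := by
      rintro O (rfl | rfl | rfl)
      exacts [Or.inl (hW 0), Or.inr hV, Or.inr hUVn]
    refine good_of_cover U V hUV (fun O hO => ?_) (fun O hO => ?_) fun O hO T hT XA ιA fA hA => ?_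
    · rw [isCompact_iff_compactSpace]
      rcases key O hO with h | h
      · haveI := h
        exact inferInstanceAs (CompactSpace (O : Scheme.{u}))
      · exact h.compactSpace
    · haveI := isSeparated_of_mono O.ι
      exact ih (key O hO)
    · haveI := isSeparated_of_mono O.ι
      haveI : IsOpenImmersion ιA := MorphismProperty.of_isPullback hA.flip inferInstance
      haveI := isSeparated_of_mono ιA
      haveI : IsAffineHom hT.fromSpec := isAffineHom_to_separated _
      haveI : IsAffineHom ιA := MorphismProperty.of_isPullback hA.flip inferInstance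
      refine ih ((key O hO).imp (fun h => ?_) fun h => h.preimage ιA)
      haveI := h
      exact isAffine_of_isAffineHom ιA

/-- Compact separated schemes. -/
theorem good_of_compact_separated (X : Scheme.{u}) [X.IsSeparated] [CompactSpace X] : Good X := by
  obtain ⟨s, hs, hcov⟩ := (isCompact_iff_finite_and_eq_biUnion_affineOpens (U := (⊤ : X.Opens))).1
    (show IsCompact (Set.univ : Set X) from isCompact_univ)
  haveI := hs.to_subtype
  obtain ⟨n, ⟨e⟩⟩ := Finite.exists_equiv_fin s
  refine good_of_isSeparated n (Or.inr ⟨fun i => (e.symm i).1.1, fun i => (e.symm i).1.2, ?_⟩)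
  refine top_unique (hcov.le.trans (iSup₂_le fun V hV => le_iSup_of_le (e ⟨V, hV⟩) ?_))
  simp

/-- Quasi-compact quasi-separated schemes. -/
theorem good_of_qcqs (X : Scheme.{u}) [CompactSpace X] [QuasiSeparatedSpace X] : Good X := by
  suffices h : ∀ S : X.Opens, IsCompact (S : Set X) →
      ∀ {U : Scheme.{u}} (j : U ⟶ X) [IsOpenImmersion j], j.opensRange = S → Good U from
    h ⊤ isCompact_univ (𝟙 X) (top_unique fun x _ => ⟨x, rfl⟩)
  intro S hS
  refine compact_open_induction_on (P := fun S => ∀ {U : Scheme.{u}} (j : U ⟶ X) [IsOpenImmersion j],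
    j.opensRange = S → Good U) S hS ?_ ?_
  · intro U j _ hj
    haveI : IsEmpty U := ⟨fun x => by
      have : j x ∈ (⊥ : X.Opens) := hj ▸ ⟨x, rfl⟩
      exact this⟩
    haveI : IsAffine U := inferInstance
    exact good_of_isAffine U
  intro S hS V ih U j _ hj
  haveI : QuasiSeparatedSpace U := .of_isOpenEmbedding j.isOpenEmbedding
  have hsub : ∀ O : X.Opens, O ≤ j.opensRange → ((j ⁻¹ᵁ O).ι ≫ j).opensRange = O := fun O hO => by
    rw [Scheme.Hom.opensRange_comp, Scheme.Opens.opensRange_ι, Scheme.Hom.image_preimage_eq_opensRange_inf,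
      inf_eq_right.2 hO]
  have hcpt : ∀ O : X.Opens, O ≤ j.opensRange → IsCompact (O : Set X) → IsCompact ((j ⁻¹ᵁ O) : Set U) :=
    fun O hO hc => (j.isOpenEmbedding.isInducing.isCompact_iff).2 (by
      show IsCompact (j.base '' ((j.base) ⁻¹' (O : Set X)))
      rw [Set.image_preimage_eq_inter_range, Set.inter_eq_left.2 (show (O : Set X) ⊆ Set.range j from hO)]
      exact hc)
  have hUc : CompactSpace U := ⟨by
    rw [j.isOpenEmbedding.isInducing.isCompact_iff, Set.image_univ]
    have := (show IsCompact (S : Set X) from hS).union V.2.isCompact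
    rwa [← Opens.coe_sup, ← hj] at this⟩
  have hleS : S ≤ j.opensRange := hj ▸ le_sup_left
  have hleV : V.1 ≤ j.opensRange := hj ▸ le_sup_right
  refine good_of_cover (j ⁻¹ᵁ S) (j ⁻¹ᵁ V.1) (top_unique fun x _ => ?_) (fun O hO => ?_) (fun O hO => ?_)
    fun O hO T hT XA ιA fA hA => ?_
  · have : j x ∈ S ⊔ V.1 := hj ▸ ⟨x, rfl⟩
    exact this
  · rcases hO with rfl | rfl | rfl
    · exact hcpt S hleS hS
    · exact hcpt V.1 hleV V.2.isCompact
    · exact hcpt (S ⊓ V.1) (inf_le_left.trans hleS)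
        (QuasiSeparatedSpace.inter_isCompact _ _ S.2 hS V.1.2 V.2.isCompact)
  · rcases hO with rfl | rfl | rfl
    · exact ih ((j ⁻¹ᵁ S).ι ≫ j) (hsub S hleS)
    · haveI : IsAffine ((j ⁻¹ᵁ V.1 : U.Opens) : Scheme.{u}) := V.2.preimage_of_isOpenImmersion j hleV
      exact good_of_isAffine _
    · haveI : IsAffine ((j ⁻¹ᵁ V.1 : U.Opens) : Scheme.{u}) := V.2.preimage_of_isOpenImmersion j hleV
      haveI : ((j ⁻¹ᵁ S ⊓ j ⁻¹ᵁ V.1 : U.Opens) : Scheme.{u}).IsSeparated :=
        isSeparated_of_mono (U.homOfLE (inf_le_right : j ⁻¹ᵁ S ⊓ j ⁻¹ᵁ V.1 ≤ j ⁻¹ᵁ V.1))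
      haveI : CompactSpace ((j ⁻¹ᵁ S ⊓ j ⁻¹ᵁ V.1 : U.Opens) : Scheme.{u}) :=
        isCompact_iff_compactSpace.1 (hcpt (S ⊓ V.1) (inf_le_left.trans hleS)
          (QuasiSeparatedSpace.inter_isCompact _ _ S.2 hS V.1.2 V.2.isCompact))
      exact good_of_compact_separated _
  · haveI : CompactSpace (O : Scheme.{u}) := isCompact_iff_compactSpace.1 (by
      rcases hO with rfl | rfl | rfl
      · exact hcpt S hleS hS
      · exact hcpt V.1 hleV V.2.isCompact
      · exact hcpt (S ⊓ V.1) (inf_le_left.trans hleS)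
          (QuasiSeparatedSpace.inter_isCompact _ _ S.2 hS V.1.2 V.2.isCompact))
    haveI : QuasiCompact O.ι := quasiCompact_of_compactSpace O.ι
    haveI : QuasiCompact fA := MorphismProperty.of_isPullback hA inferInstance
    haveI : IsOpenImmersion fA := MorphismProperty.of_isPullback hA inferInstance
    haveI := isSeparated_of_mono fA
    haveI : CompactSpace XA := QuasiCompact.compactSpace_of_compactSpace fA
    exact good_of_compact_separated XA

end Groth.Agent.PerfD40.BC
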