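import Mathlib.CategoryTheory.Adjunction.Unique
import Mathlib.CategoryTheory.Monad.Adjunction
import Mathlib.CategoryTheory.Adjunction.Mates
import Mathlib.CategoryTheory.Triangulated.Yoneda
import Mathlib.CategoryTheory.Triangulated.Functor
import Mathlib.Algebra.FiveLemma
import Mathlib.CategoryTheory.Limits.Preserves.Shapes.Products

/-!
# Base change maps of squares of adjunctions
-/

set_option autoImplicit false

universe v v₁ v₂ v₃ v₄ v₅ v₆ u₁ u₂ u₃ u₄ u₅ u₆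

open CategoryTheory CategoryTheory.Category CategoryTheory.Limits

namespace Groth.Agent.PerfD40.BC

section Mate

variable {C₁ : Type u₁} [Category.{v₁} C₁] {C₂ : Type u₂} [Category.{v₂} C₂]
  {D₁ : Type u₃} [Category.{v₃} D₁] {D₂ : Type u₄} [Category.{v₄} D₂]
  {G : C₁ ⥤ D₁} {H : C₂ ⥤ D₂} {L : C₁ ⥤ C₂} {R : C₂ ⥤ C₁} {L' : D₁ ⥤ D₂} {R' : D₂ ⥤ D₁}
  (a : L ⊣ R) (a' : L' ⊣ R') (c : G ⋙ L' ⟶ L ⋙ H)

/-- The base change map `G R ⟶ R' H` transposed from `c : L' G ⟶ H L`. -/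
def bcApp (E : C₂) : G.obj (R.obj E) ⟶ R'.obj (H.obj E) :=
  a'.homEquiv _ _ (c.app (R.obj E) ≫ H.map (a.counit.app E))

theorem bcApp_naturality {E F : C₂} (φ : E ⟶ F) :
    G.map (R.map φ) ≫ bcApp a a' c F = bcApp a a' c E ≫ R'.map (H.map φ) := by
  rw [bcApp, bcApp, ← a'.homEquiv_naturality_left, ← a'.homEquiv_naturality_right, ← assoc]
  have h := c.naturality (R.map φ)
  simp only [Functor.comp_map] at h
  rw [h, assoc, assoc, ← H.map_comp, ← H.map_comp, a.counit_naturality]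

theorem map_comp_bcApp {K : C₁} {E : C₂} (x : K ⟶ R.obj E) :
    (a'.homEquiv _ _).symm (G.map x ≫ bcApp a a' c E) = c.app K ≫ H.map ((a.homEquiv _ _).symm x) := by
  rw [bcApp, a'.homEquiv_naturality_left_symm, Equiv.symm_apply_apply, ← assoc]
  have h := c.naturality x
  simp only [Functor.comp_map] at h
  rw [h, assoc, ← H.map_comp, a.homEquiv_counit]

section Change

variable {L₂ : C₁ ⥤ C₂} {R₂ : C₂ ⥤ C₁} {L₂' : D₁ ⥤ D₂} {R₂' : D₂ ⥤ D₁}
  (b : L₂ ⊣ R₂) (b' : L₂' ⊣ R₂') (e : L ≅ L₂) (e' : L' ≅ L₂')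

/-- Invertibility does not depend on the choice of adjoints. -/
theorem isIso_bcApp_iff (c₂ : G ⋙ L₂' ⟶ L₂ ⋙ H)
    (hc : ∀ K, c.app K ≫ H.map (e.hom.app K) = e'.hom.app (G.obj K) ≫ c₂.app K) (E : C₂) :
    IsIso (bcApp a a' c E) ↔ IsIso (bcApp b b' c₂ E) := by
  let b₀ := b.ofNatIsoLeft e.symm
  let b₀' := b'.ofNatIsoLeft e'.symm
  have key : bcApp a a' c E =
      G.map ((a.rightAdjointUniq b₀).hom.app E) ≫ bcApp b b' c₂ E ≫
        (a'.rightAdjointUniq b₀').inv.app (H.obj E) := by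
    rw [← Iso.app_inv, ← assoc, Iso.eq_comp_inv, Iso.app_hom]
    apply (b'.homEquiv _ _).symm.injective
    rw [map_comp_bcApp, ← cancel_epi (e'.hom.app _)]
    simp only [Functor.comp_obj]
    rw [← reassoc_of% hc, ← H.map_comp]
    have h1 : ∀ {A : D₁} {B : D₂} (z : A ⟶ R₂'.obj B), e'.hom.app A ≫ (b'.homEquiv A B).symm z =
        (b₀'.homEquiv A B).symm z := fun {A B} z => by
      rw [b'.homEquiv_counit, b₀'.homEquiv_counit]
      simp [b₀', Adjunction.ofNatIsoLeft]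
    rw [h1, b₀'.homEquiv_naturality_left_symm, Adjunction.homEquiv_symm_rightAdjointUniq_hom_app,
      show e.hom.app (R.obj E) ≫ (b.homEquiv _ _).symm ((a.rightAdjointUniq b₀).hom.app E) =
        a.counit.app E by
        rw [show e.hom.app (R.obj E) ≫ (b.homEquiv _ _).symm ((a.rightAdjointUniq b₀).hom.app E) =
          (b₀.homEquiv _ _).symm ((a.rightAdjointUniq b₀).hom.app E) by
            rw [b.homEquiv_counit, b₀.homEquiv_counit]
            simp [b₀, Adjunction.ofNatIsoLeft]]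
        exact Adjunction.homEquiv_symm_rightAdjointUniq_hom_app _ _ _]
    rw [← a'.homEquiv_counit, bcApp, Equiv.symm_apply_apply]
  rw [key]
  constructor
  · intro h
    haveI := IsIso.of_isIso_comp_left (G.map ((a.rightAdjointUniq b₀).hom.app E))
      (bcApp b b' c₂ E ≫ (a'.rightAdjointUniq b₀').inv.app (H.obj E))
    exact IsIso.of_isIso_comp_right _ ((a'.rightAdjointUniq b₀').inv.app (H.obj E))
  · intro h
    infer_instance

end Change

section ChangeSides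

variable {G₂ : C₁ ⥤ D₁} {H₂ : C₂ ⥤ D₂} (γ : G ≅ G₂) (η : H ≅ H₂)

/-- Invertibility does not depend on the choice of the sides. -/
theorem isIso_bcApp_iff_sides (c₂ : G₂ ⋙ L' ⟶ L ⋙ H₂)
    (hc : ∀ K, c.app K ≫ η.hom.app (L.obj K) = L'.map (γ.hom.app K) ≫ c₂.app K) (E : C₂) :
    IsIso (bcApp a a' c E) ↔ IsIso (bcApp a a' c₂ E) := by
  have key : bcApp a a' c E ≫ R'.map (η.hom.app E) = γ.hom.app (R.obj E) ≫ bcApp a a' c₂ E := by
    rw [bcApp, bcApp, ← a'.homEquiv_naturality_right, ← a'.homEquiv_naturality_left]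
    refine congrArg (a'.homEquiv _ _) ?_
    rw [assoc, ← reassoc_of% hc]
    exact congrArg (c.app _ ≫ ·) (η.hom.naturality (a.counit.app E))
  constructor
  · intro h
    haveI : IsIso (γ.hom.app (R.obj E) ≫ bcApp a a' c₂ E) := key ▸ inferInstance
    exact IsIso.of_isIso_comp_left (γ.hom.app (R.obj E)) _
  · intro h
    haveI : IsIso (bcApp a a' c E ≫ R'.map (η.hom.app E)) := key ▸ inferInstance
    exact IsIso.of_isIso_comp_right _ (R'.map (η.hom.app E))

end ChangeSides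

section Vertical

variable {C₃ : Type u₅} [Category.{v₅} C₃] {D₃ : Type u₆} [Category.{v₆} D₃]
  {K : C₃ ⥤ D₃} {L₂ : C₂ ⥤ C₃} {R₂ : C₃ ⥤ C₂} {L₂' : D₂ ⥤ D₃} {R₂' : D₃ ⥤ D₂}
  (a₂ : L₂ ⊣ R₂) (a₂' : L₂' ⊣ R₂') (c₂ : H ⋙ L₂' ⟶ L₂ ⋙ K)

/-- The natural transformation of the pasted square. -/
def vcompCell : G ⋙ (L' ⋙ L₂') ⟶ (L ⋙ L₂) ⋙ K where
  app X := L₂'.map (c.app X) ≫ c₂.app (L.obj X)
  naturality X Y f := by
    have h := c.naturality f
    have h₂ := c₂.naturality (L.map f)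
    simp only [Functor.comp_map] at h h₂ ⊢
    rw [← assoc, ← L₂'.map_comp, h, L₂'.map_comp, assoc]
    exact (congrArg (L₂'.map (c.app X) ≫ ·) h₂).trans (assoc _ _ _).symm

theorem bcApp_vcomp (E : C₃) :
    bcApp (a.comp a₂) (a'.comp a₂') (vcompCell c c₂) E =
      bcApp a a' c (R₂.obj E) ≫ R'.map (bcApp a₂ a₂' c₂ E) := by
  rw [bcApp, bcApp, bcApp, Adjunction.comp_homEquiv, ← a'.homEquiv_naturality_right]
  refine congrArg (a'.homEquiv _ _) ?_
  rw [assoc, ← a₂'.homEquiv_naturality_left, ← a₂'.homEquiv_naturality_left]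
  refine congrArg (a₂'.homEquiv _ _) ?_
  simp only [vcompCell, Adjunction.comp, Adjunction.mk'_counit, NatTrans.comp_app, Functor.whiskerLeft_app,
    Functor.whiskerRight_app, Functor.comp_obj, Functor.comp_map, assoc, Functor.associator_hom_app,
    Functor.associator_inv_app, Functor.rightUnitor_hom_app, Functor.leftUnitor_hom_app, id_comp,
    comp_id, Functor.id_obj, CategoryTheory.Functor.map_id, Functor.map_comp]
  have h₂ := c₂.naturality (a.counit.app (R₂.obj E))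
  simp only [Functor.comp_map] at h₂
  rw [reassoc_of% h₂]

end Vertical

section Horizontal

variable {E₁ : Type u₅} [Category.{v₅} E₁] {E₂ : Type u₆} [Category.{v₆} E₂]
  {G₂ : D₁ ⥤ E₁} {H₂ : D₂ ⥤ E₂} {L'' : E₁ ⥤ E₂} {R'' : E₂ ⥤ E₁}
  (a'' : L'' ⊣ R'') (c₂ : G₂ ⋙ L'' ⟶ L' ⋙ H₂)

/-- The natural transformation of the pasted square. -/
def hcompCell : (G ⋙ G₂) ⋙ L'' ⟶ L ⋙ (H ⋙ H₂) where
  app X := c₂.app (G.obj X) ≫ H₂.map (c.app X)
  naturality X Y f := by
    have h := c.naturality f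
    have h₂ := c₂.naturality (G.map f)
    simp only [Functor.comp_map] at h h₂ ⊢
    rw [← assoc, h₂, assoc, ← H₂.map_comp, h, H₂.map_comp]
    exact (assoc _ _ _).symm

theorem bcApp_hcomp (E : C₂) :
    bcApp a a'' (hcompCell c c₂) E = G₂.map (bcApp a a' c E) ≫ bcApp a' a'' c₂ (H.obj E) := by
  apply (a''.homEquiv _ _).symm.injective
  refine Eq.trans ?_ (map_comp_bcApp a' a'' c₂ (bcApp a a' c E)).symm
  rw [bcApp, bcApp, Equiv.symm_apply_apply, Equiv.symm_apply_apply]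
  simp [hcompCell]

end Horizontal

end Mate

section Solve

variable {A : Type u₁} [Category.{v₁} A] {B : Type u₂} [Category.{v₂} B] {C : Type u₃} [Category.{v₃} C]
  {L : A ⥤ B} {R : B ⥤ A} (adj : L ⊣ R) [IsIso adj.counit] {P Q : B ⥤ C}

include adj in
/-- Transformations out of a localization descend. -/
theorem exists_iso_of_comp (ψ : L ⋙ P ≅ L ⋙ Q) :
    ∃ c : P ≅ Q, ∀ X, c.hom.app (L.obj X) = ψ.hom.app X := by
  let e := asIso adj.counit
  refine ⟨(Functor.leftUnitor P).symm ≪≫ Functor.isoWhiskerRight e.symm P ≪≫ Functor.associator _ _ _ ≪≫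
    Functor.isoWhiskerLeft R ψ ≪≫ (Functor.associator _ _ _).symm ≪≫ Functor.isoWhiskerRight e Q ≪≫
      Functor.leftUnitor Q, fun X => ?_⟩
  have hinv : e.inv.app (L.obj X) = L.map (adj.unit.app X) := by
    rw [← cancel_mono (e.hom.app (L.obj X)), Iso.inv_hom_id_app]
    exact (adj.left_triangle_components X).symm
  simp only [Iso.trans_hom, Iso.symm_hom, NatTrans.comp_app, Functor.leftUnitor_inv_app,
    Functor.isoWhiskerRight_hom, Functor.whiskerRight_app, Functor.associator_hom_app,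
    Functor.isoWhiskerLeft_hom, Functor.whiskerLeft_app, Functor.associator_inv_app,
    Functor.leftUnitor_hom_app, Functor.id_obj, Functor.comp_obj, comp_id, id_comp]
  rw [hinv]
  have h := ψ.hom.naturality (adj.unit.app X)
  simp only [Functor.comp_map] at h
  rw [reassoc_of% h, ← Q.map_comp]
  simp only [e, asIso_hom]
  rw [adj.left_triangle_components, Q.map_id]
  exact comp_id _

end Solve

section Five

open Pretriangulated

variable {C : Type u₁} [Category.{v} C] [Preadditive C] [HasZeroObject C] [HasShift C ℤ]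
  [∀ n : ℤ, (shiftFunctor C n).Additive] [Pretriangulated C]
  {D : Type u₂} [Category.{v₂} D] [Preadditive D] [HasZeroObject D] [HasShift D ℤ]
  [∀ n : ℤ, (shiftFunctor D n).Additive] [Pretriangulated D]

/-- An additive functor sending distinguished triangles to distinguished triangles up to the third map. -/
def SemiExact (F : C ⥤ D) : Prop :=
  F.Additive ∧ ∀ T ∈ distTriang C, ∃ d : F.obj T.obj₃ ⟶ (F.obj T.obj₁)⟦(1 : ℤ)⟧,
    Triangle.mk (F.map T.mor₁) (F.map T.mor₂) d ∈ distTriang D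

theorem SemiExact.comp {E : Type u₃} [Category.{v₃} E] [Preadditive E] [HasZeroObject E] [HasShift E ℤ]
    [∀ n : ℤ, (shiftFunctor E n).Additive] [Pretriangulated E] {F : C ⥤ D} {G : D ⥤ E}
    (hF : SemiExact F) (hG : SemiExact G) : SemiExact (F ⋙ G) := by
  haveI := hF.1
  haveI := hG.1
  refine ⟨inferInstance, fun T hT => ?_⟩
  obtain ⟨d, hd⟩ := hF.2 T hT
  exact hG.2 _ hd

theorem SemiExact.exact {F : C ⥤ D} (hF : SemiExact F) {T : Triangle C} (hT : T ∈ distTriang C)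
    (A : D) (y : A ⟶ F.obj T.obj₂) (hy : y ≫ F.map T.mor₂ = 0) : ∃ x, x ≫ F.map T.mor₁ = y := by
  obtain ⟨d, hd⟩ := hF.2 T hT
  obtain ⟨x, hx⟩ := Triangle.coyoneda_exact₂ _ hd y hy
  exact ⟨x, hx.symm⟩

/-- The five lemma for semi-exact functors. -/
theorem isIso_app_obj₃ {F G : C ⥤ D} (hF : SemiExact F) (hG : SemiExact G) (η : F ⟶ G)
    {T : Triangle C} (hT : T ∈ distTriang C) (h₁ : IsIso (η.app T.obj₁)) (h₂ : IsIso (η.app T.obj₂))
    (h₁' : IsIso (η.app (T.obj₁⟦(1 : ℤ)⟧))) (h₂' : IsIso (η.app (T.obj₂⟦(1 : ℤ)⟧))) :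
    IsIso (η.app T.obj₃) := by
  have hr := rot_of_distTriang _ hT
  have hrr := rot_of_distTriang _ hr
  haveI := hF.1
  haveI := hG.1
  haveI := h₁
  haveI := h₂
  haveI := h₁'
  haveI := h₂'
  have nat : ∀ {A B : C} (f : A ⟶ B), F.map f ≫ η.app B = η.app A ≫ G.map f := fun f => η.naturality f
  rw [isIso_iff_yoneda_map_bijective]
  intro A
  have zF₁ : F.map T.mor₁ ≫ F.map T.mor₂ = 0 := by
    rw [← F.map_comp, comp_distTriang_mor_zero₁₂ _ hT, F.map_zero]
  have zF₃ : F.map T.mor₂ ≫ F.map T.mor₃ = 0 := by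
    rw [← F.map_comp, comp_distTriang_mor_zero₂₃ _ hT, F.map_zero]
  have zG₃ : G.map T.mor₂ ≫ G.map T.mor₃ = 0 := by
    rw [← G.map_comp, comp_distTriang_mor_zero₂₃ _ hT, G.map_zero]
  have zG₄ : G.map T.mor₃ ≫ G.map (T.mor₁⟦(1 : ℤ)⟧') = 0 := by
    rw [← G.map_comp, comp_distTriang_mor_zero₃₁ _ hT, G.map_zero]
  constructor
  · intro x x' hx
    rw [← sub_eq_zero]
    have h0 : (x - x') ≫ η.app T.obj₃ = 0 := by
      rw [Preadditive.sub_comp, sub_eq_zero]
      exact hx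
    generalize x - x' = z at h0 ⊢
    have hz3 : z ≫ F.map T.mor₃ = 0 := by
      rw [← cancel_mono (η.app _), assoc, nat, ← assoc, h0, zero_comp, zero_comp]
    obtain ⟨z₂, hz₂⟩ := hF.exact hr A z hz3
    change A ⟶ F.obj T.obj₂ at z₂
    change z₂ ≫ F.map T.mor₂ = z at hz₂
    obtain ⟨w₁, hw₁⟩ := hG.exact hT A (z₂ ≫ η.app T.obj₂) (by rw [assoc, ← nat, ← assoc, hz₂, h0])
    have : z₂ = (w₁ ≫ inv (η.app T.obj₁)) ≫ F.map T.mor₁ := by
      rw [← cancel_mono (η.app T.obj₂), assoc, nat, assoc, IsIso.inv_hom_id_assoc, hw₁]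
    rw [← hz₂, this, assoc, zF₁, comp_zero]
  · intro y
    let y₄ : A ⟶ F.obj (T.obj₁⟦(1 : ℤ)⟧) := y ≫ G.map T.mor₃ ≫ inv (η.app (T.obj₁⟦(1 : ℤ)⟧))
    obtain ⟨x₃, hx₃⟩ := hF.exact hrr A y₄ (by
      show (y ≫ G.map T.mor₃ ≫ inv (η.app _)) ≫ F.map (-T.mor₁⟦(1 : ℤ)⟧') = 0
      rw [F.map_neg, Preadditive.comp_neg, neg_eq_zero, ← cancel_mono (η.app _), assoc, nat, assoc, assoc,
        IsIso.inv_hom_id_assoc, zG₄, comp_zero, zero_comp])
    change A ⟶ F.obj T.obj₃ at x₃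
    change x₃ ≫ F.map T.mor₃ = _ at hx₃
    obtain ⟨y₂, hy₂⟩ := hG.exact hr A (y - x₃ ≫ η.app T.obj₃) (by
      show (y - x₃ ≫ η.app T.obj₃) ≫ G.map T.mor₃ = 0
      rw [Preadditive.sub_comp, assoc, ← nat, reassoc_of% hx₃]
      simp [y₄])
    change A ⟶ G.obj T.obj₂ at y₂
    change y₂ ≫ G.map T.mor₂ = _ at hy₂
    refine ⟨x₃ + (y₂ ≫ inv (η.app T.obj₂)) ≫ F.map T.mor₂, ?_⟩
    show (x₃ + _) ≫ η.app T.obj₃ = y
    rw [Preadditive.add_comp, assoc, nat, assoc, IsIso.inv_hom_id_assoc, hy₂, add_sub_cancel]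

end Five

end Groth.Agent.PerfD40.BC
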