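import Groth.Agent.KFlatLib.Scheme.LpullLE
import Groth.Agent.KFlatLib.PsiC

/-!
# The top cohomology of a derived pullback
-/

set_option autoImplicit false
set_option linter.style.haveILetI false
set_option backward.isDefEq.respectTransparency false
set_option backward.isDefEq.respectTransparency.types false

universe u v u' v'

open CategoryTheory CategoryTheory.Limits AlgebraicGeometry

attribute [local instance] HasDerivedCategory.standard

noncomputable section

namespace Groth.Agent.PerfD40.BC

open Groth.Agent.KFlatLib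

/-- A right exact functor keeps a resolution of a module in the top degree a quasi-isomorphism there. -/
theorem quasiIsoAt_map_of_top {C : Type u} [Category.{v} C] [Abelian C] {D : Type u'} [Category.{v'} D] [Abelian D]
    (F : C ⥤ D) [F.Additive] [PreservesFiniteColimits F] {R : CochainComplex C ℤ} {n : ℤ} [R.IsStrictlyLE n]
    {M : C} (ρ : R ⟶ (CochainComplex.singleFunctor C n).obj M) [QuasiIso ρ] :
    QuasiIsoAt ((F.mapHomologicalComplex (ComplexShape.up ℤ)).map ρ) n := by
  let S := (CochainComplex.singleFunctor C n).obj M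
  have hR : IsZero (R.X (n + 1)) := R.isZero_of_isStrictlyLE n (n + 1) (by omega)
  have hS : ∀ i, i ≠ n → IsZero (S.X i) := fun i hi =>
    HomologicalComplex.isZero_single_obj_X (ComplexShape.up ℤ) n M i hi
  have h1 : QuasiIsoAt ρ n := inferInstance
  rw [quasiIsoAt_iff' _ (n - 1) n (n + 1) (by simp) (by simp)] at h1 ⊢
  have hz₁ : (R.sc' (n - 1) n (n + 1)).g = 0 := hR.eq_of_tgt _ _
  have hz₂ : (S.sc' (n - 1) n (n + 1)).f = 0 := (hS (n - 1) (by omega)).eq_of_src _ _
  have hz₃ : (S.sc' (n - 1) n (n + 1)).g = 0 := (hS (n + 1) (by omega)).eq_of_tgt _ _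
  obtain ⟨hex, hepi⟩ := (ShortComplex.quasiIso_iff_of_zeros' _ hz₁ hz₂ hz₃).1 h1
  haveI := hepi
  refine (ShortComplex.quasiIso_iff_of_zeros' _ ?_ ?_ ?_).2 ⟨?_, ?_⟩
  · exact (congrArg F.map hz₁).trans (F.map_zero _ _)
  · exact (congrArg F.map hz₂).trans (F.map_zero _ _)
  · exact (congrArg F.map hz₃).trans (F.map_zero _ _)
  · exact ShortComplex.exact_of_g_is_cokernel _
      (CokernelCofork.mapIsColimit _ hex.gIsCokernel F)
  · haveI : Epi (ρ.f n) := hepi
    haveI : PreservesColimitsOfShape WalkingSpan F := PreservesFiniteColimits.preservesFiniteColimits _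
    exact inferInstanceAs (Epi (F.map (ρ.f n)))

variable {X Y : Scheme.{u}} (f : X ⟶ Y) [DCoh.HasLpull f]

/-- The comparison in the top degree is invertible. -/
theorem isIso_hd_lpullComparison_single (n : ℤ) (M : Y.Modules) :
    IsIso ((DerivedCategory.homologyFunctor X.Modules n).map
      ((lpullComparison f).app ((CochainComplex.singleFunctor Y.Modules n).obj M))) := by
  obtain ⟨R, ρ, hρ, hR, hK⟩ := exists_flat_rep ((CochainComplex.singleFunctor Y.Modules n).obj M) n
  haveI := hρ
  haveI := hR
  let H := DerivedCategory.homologyFunctor X.Modules n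
  haveI := isIso_lpullComparison f hK
  haveI : IsIso (DerivedCategory.Q.map ρ) := (DerivedCategory.isIso_Q_map_iff_quasiIso _ _).2 hρ
  haveI : QuasiIsoAt ((pullCx f).map ρ) n := quasiIsoAt_map_of_top (Scheme.Modules.pullback f) ρ
  haveI : IsIso (H.map (DerivedCategory.Q.map ((pullCx f).map ρ))) :=
    (NatIso.isIso_map_iff (DerivedCategory.homologyFunctorFactors X.Modules n) ((pullCx f).map ρ)).2
      ((quasiIsoAt_iff_isIso_homologyMap _ _).1 inferInstance)
  have hn := congrArg H.map ((lpullComparison f).naturality ρ)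
  simp only [Functor.comp_map, Functor.map_comp] at hn
  haveI : IsIso (H.map ((DCoh.Lpull f).map (DerivedCategory.Q.map ρ)) ≫
      H.map ((lpullComparison f).app ((CochainComplex.singleFunctor Y.Modules n).obj M))) := by
    erw [hn]
    exact inferInstance
  exact IsIso.of_isIso_comp_left (H.map ((DCoh.Lpull f).map (DerivedCategory.Q.map ρ))) _

/-- `H^n Lf^*(M[-n]) = f^* M`, naturally. -/
theorem nonempty_hd_lpull_single_iso (n : ℤ) :
    Nonempty (DerivedCategory.singleFunctor Y.Modules n ⋙ DCoh.Lpull f ⋙
      DerivedCategory.homologyFunctor X.Modules n ≅ Scheme.Modules.pullback f) := by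
  let H := DerivedCategory.homologyFunctor X.Modules n
  let S := CochainComplex.singleFunctor Y.Modules n
  let c : (S ⋙ DerivedCategory.Q ⋙ DCoh.Lpull f) ⋙ H ⟶ (S ⋙ pullCx f ⋙ DerivedCategory.Q) ⋙ H :=
    Functor.whiskerRight (Functor.whiskerLeft S (lpullComparison f)) H
  haveI : ∀ M, IsIso (c.app M) := fun M => isIso_hd_lpullComparison_single f n M
  haveI := NatIso.isIso_of_isIso_app c
  exact ⟨(Functor.associator _ _ _).symm ≪≫
    Functor.isoWhiskerRight (Functor.isoWhiskerRight (DerivedCategory.singleFunctorIsoCompQ Y.Modules n)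
      (DCoh.Lpull f) ≪≫ Functor.associator _ _ _) H ≪≫ asIso c ≪≫
    Functor.isoWhiskerRight ((Functor.associator _ _ _).symm ≪≫
      Functor.isoWhiskerRight (HomologicalComplex.singleMapHomologicalComplex (Scheme.Modules.pullback f)
        (ComplexShape.up ℤ) n) DerivedCategory.Q ≪≫ Functor.associator _ _ _ ≪≫
      Functor.isoWhiskerLeft _ (DerivedCategory.singleFunctorIsoCompQ X.Modules n).symm) H ≪≫
    Functor.associator _ _ _ ≪≫
    Functor.isoWhiskerLeft _ (DerivedCategory.singleFunctorCompHomologyFunctorIso X.Modules n) ≪≫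
    Functor.rightUnitor _⟩

end Groth.Agent.PerfD40.BC
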